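/-
Kernel checks on the tables for the centraliser of an octad sign change fixing a minimal vector.
-/
import Cfsg.Agent.Lib.Leech.OctadCent.Data
import Cfsg.Agent.Lib.Mathieu.Rigid

set_option autoImplicit false
set_option maxRecDepth 20000

namespace Cfsg.Agent.Leech.OctadCent

open Cfsg

/-- Coordinate function with the values `l` on the octad and zero elsewhere. -/
def vecO (l : List ℤ) (n : ℕ) : ℤ := l.getD (oPts.idxOf n) 0

/-- The same on the points. -/
def vecF (l : List ℤ) : GolayPt → ℤ := fun p => vecO l (Mathieu.ptEnc p).val

/-- The values on the octad. -/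
def valsOf (x : GolayPt → ℤ) : List ℤ := oPts.map fun n => x (Mathieu.idx Mathieu.ptEnc n)

/-- Dot product of value lists. -/
def dotL (a b : List ℤ) : ℤ := (List.zipWith (· * ·) a b).sum

/-- The symplectic form on six-bit codes. -/
def formB (a b : ℕ) : Bool :=
  xor (xor (xor (a.testBit 0 && b.testBit 3) (a.testBit 3 && b.testBit 0))
    (xor (a.testBit 1 && b.testBit 4) (a.testBit 4 && b.testBit 1)))
    (xor (a.testBit 2 && b.testBit 5) (a.testBit 5 && b.testBit 2))

/-- All lists of a length over given values. -/
def choices (vals : List ℤ) : ℕ → List (List ℤ)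
  | 0 => [[]]
  | n + 1 => vals.flatMap fun a => (choices vals n).map (a :: ·)

theorem mem_choices (vals : List ℤ) : ∀ (n : ℕ) (l : List ℤ), l.length = n → (∀ x ∈ l, x ∈ vals) →
    l ∈ choices vals n
  | 0, l, hl, _ => by simp [choices, List.length_eq_zero_iff.1 hl]
  | n + 1, [], hl, _ => by simp at hl
  | n + 1, a :: l, hl, h => by
    simp only [choices, List.mem_flatMap, List.mem_map]
    exact ⟨a, h a List.mem_cons_self, l, mem_choices vals n l (by simpa using hl)
      (fun x hx => h x (List.mem_cons_of_mem _ hx)), rfl⟩

/-- Membership among the roots up to sign. -/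
def isRoot (l : List ℤ) : Bool := rootL.any fun r => r == l || r.map (fun x => -x) == l

theorem oPts_check : (oPts.Nodup ∧ ∀ n < 24, (oMask.testBit n = true ↔ n ∈ oPts)) ∧
    ∀ n ∈ oPts, n < 24 := by
  decide +kernel

theorem oMask_check : (Mathieu.inCode oMask && Mathieu.popc 24 oMask == 8 && Mathieu.inCode offMask &&
    (List.range 24).all fun n => offMask.testBit n == !oMask.testBit n) = true := by
  decide +kernel

theorem root_len : (rootL.length == 63 && coordL.length == 63 && basL.length == 6 &&
    rootL.all (fun l => l.length == 8) && basL.all (fun k => k.blt 63) && w0.blt 63) = true := by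
  decide +kernel

theorem root_inL : (rootL.all fun l => inLB (vecF l)) = true := by decide +kernel

theorem root_norm : (rootL.all fun l => dotL l l == 32 && dotL [4, 4, 0, 0, 0, 0, 0, 0] l == 0) = true := by
  decide +kernel

theorem root_vals : (rootL.all fun l => valsOf (vecF l) == l) = true := by decide +kernel

theorem root_nodup : (rootL ++ rootL.map fun r => r.map fun x => -x).Nodup := by decide +kernel

theorem root_form : ((List.range 63).all fun i => (List.range 63).all fun j =>
    dotL (rootL.getD i []) (rootL.getD j []) % 32 ==
      if formB (coordL.getD i 0) (coordL.getD j 0) then 16 else 0) = true := by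
  decide +kernel

theorem coord_nodup : (coordL.Nodup ∧ ∀ c ∈ coordL, 0 < c ∧ c < 64) := by decide +kernel

theorem coord_basis : ((List.range 6).all fun k => coordL.getD (basL.getD k 0) 0 == 2 ^ k) = true := by
  decide +kernel

theorem class_four : ((choices [-4, 0, 4] 8).all fun l =>
    !(dotL l l == 32 && dotL [4, 4, 0, 0, 0, 0, 0, 0] l == 0) || isRoot l) = true := by
  decide +kernel

theorem class_two : ((choices [-2, 2] 8).all fun l =>
    !(l.sum % 8 == 0 && dotL [4, 4, 0, 0, 0, 0, 0, 0] l == 0) || isRoot l) = true := by
  decide +kernel

theorem code_in_octad : ((List.range 4096).all fun c => Mathieu.force (Mathieu.encC Mathieu.codeBasis c)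
    fun m => !(m &&& offMask == 0) || m == 0 || m == oMask) = true := by
  decide +kernel

theorem code_off_octad : ((List.range 4096).all fun c => Mathieu.force (Mathieu.encC Mathieu.codeBasis c)
    fun m => !(m &&& oMask == 0) || offWords.contains m) = true := by
  decide +kernel

/-- A generator with its action on the roots. -/
def genOK (a : Gen) (P : List ℕ) : Bool :=
  a.ok && (List.range 24).all (fun n => chainN a (vecO [4, 4, 0, 0, 0, 0, 0, 0]) n ==
      vecO [4, 4, 0, 0, 0, 0, 0, 0] n) &&
    (List.range 24).all (fun i => (List.range 24).all fun n =>
      oMask.testBit i == oMask.testBit n || chainN a (fun m => if m = i then 8 else 0) n == 0) &&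
    (List.range 63).all fun i => (P.getD i 0).blt 63 &&
      ((List.range 24).all (fun n => chainN a (vecO (rootL.getD i [])) n == vecO (rootL.getD (P.getD i 0) []) n) ||
      (List.range 24).all (fun n => chainN a (vecO (rootL.getD i [])) n == -vecO (rootL.getD (P.getD i 0) []) n))

theorem gens_check : ((List.range 3).all fun k => genOK (gens.getD k []) (genPerms.getD k [])) = true := by
  decide +kernel

theorem transvection_check : ((List.range 6).all fun k =>
    coordL.getD ((genPerms.getD 0 []).getD (basL.getD k 0) 0) 0 ==
      (if formB (2 ^ k) (coordL.getD w0 0) then 2 ^ k ^^^ coordL.getD w0 0 else 2 ^ k)) = true := by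
  decide +kernel

/-- The tree reaches every root. -/
def treeOK : List ℕ → List (ℕ × ℕ × ℕ) → Bool
  | _, [] => true
  | known, (a, p, k) :: rest => k.blt 3 && known.contains p && (genPerms.getD k []).getD p 0 == a &&
      treeOK (a :: known) rest

theorem tree_check : (treeOK [w0] tree &&
    (List.range 63).all fun i => i == w0 || (tree.map Prod.fst).contains i) = true := by
  decide +kernel

theorem fixPerms_check : (fixPerms.length == 16 && fixPerms.all fun l =>
    Mathieu.permOK 24 l && Mathieu.presCode l &&
      oPts.all fun n => Mathieu.app l n == n) = true := by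
  decide +kernel

theorem fixPerms_nodup : fixPerms.Nodup := by decide +kernel

theorem fixPerms_mul : (fixPerms.all fun a => (List.range 24).all (fun n =>
    Mathieu.app a (Mathieu.app a n) == n) && fixPerms.all fun b => (List.range 24).all fun n =>
      Mathieu.app a (Mathieu.app b n) == Mathieu.app b (Mathieu.app a n)) = true := by
  decide +kernel

theorem offWords_check : (offWords.length == 32 && offWords.all fun m =>
    Mathieu.inCode m && m &&& oMask == 0) = true := by
  decide +kernel

theorem offWords_nodup : offWords.Nodup := by decide +kernel

theorem moved_check : (fixPerms.all fun a => offWords.all fun m =>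
    (List.range 24).all (fun n => m.testBit (Mathieu.app a n) == m.testBit n) ||
      (List.range 24).all (fun n => (m.testBit (Mathieu.app a n) != m.testBit n) == offMask.testBit n)) = true := by
  decide +kernel

theorem faithful_check : (fixPerms.all fun a => (List.range 24).all (fun n => Mathieu.app a n == n) ||
    offWords.any fun m => (List.range 24).any fun n => m.testBit (Mathieu.app a n) != m.testBit n) = true := by
  decide +kernel

theorem fixed_word_check : (offWords.all fun m => m == 0 || m == offMask ||
    fixPerms.any fun a => (List.range 24).any fun n => m.testBit (Mathieu.app a n) != m.testBit n) = true := by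
  decide +kernel

end Cfsg.Agent.Leech.OctadCent
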