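/-
Tables for the centraliser of an octad sign change in the automorphism group of the lattice.
-/
import Cfsg.Agent.Lib.Leech.OctadCent.Data

set_option autoImplicit false

namespace Cfsg.Agent.Leech.OctadCent

/-- The minimal vectors on the octad up to sign: those of `rootL`, the fixed one, the rest. -/
def rootL8 : List (List ℤ) := [
  [0, 0, 0, 0, 0, 0, 4, -4], [0, 0, 0, 0, 0, 0, 4, 4], [0, 0, 0, 0, 0, 4, -4, 0],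
  [0, 0, 0, 0, 0, 4, 0, -4], [0, 0, 0, 0, 0, 4, 0, 4], [0, 0, 0, 0, 0, 4, 4, 0],
  [0, 0, 0, 0, 4, -4, 0, 0], [0, 0, 0, 0, 4, 0, -4, 0], [0, 0, 0, 0, 4, 0, 0, -4],
  [0, 0, 0, 0, 4, 0, 0, 4], [0, 0, 0, 0, 4, 0, 4, 0], [0, 0, 0, 0, 4, 4, 0, 0],
  [0, 0, 0, 4, -4, 0, 0, 0], [0, 0, 0, 4, 0, -4, 0, 0], [0, 0, 0, 4, 0, 0, -4, 0],
  [0, 0, 0, 4, 0, 0, 0, -4], [0, 0, 0, 4, 0, 0, 0, 4], [0, 0, 0, 4, 0, 0, 4, 0],
  [0, 0, 0, 4, 0, 4, 0, 0], [0, 0, 0, 4, 4, 0, 0, 0], [0, 0, 4, -4, 0, 0, 0, 0],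
  [0, 0, 4, 0, -4, 0, 0, 0], [0, 0, 4, 0, 0, -4, 0, 0], [0, 0, 4, 0, 0, 0, -4, 0],
  [0, 0, 4, 0, 0, 0, 0, -4], [0, 0, 4, 0, 0, 0, 0, 4], [0, 0, 4, 0, 0, 0, 4, 0],
  [0, 0, 4, 0, 0, 4, 0, 0], [0, 0, 4, 0, 4, 0, 0, 0], [0, 0, 4, 4, 0, 0, 0, 0],
  [4, -4, 0, 0, 0, 0, 0, 0], [2, -2, -2, -2, -2, -2, -2, 2], [2, -2, -2, -2, -2, -2, 2, -2],
  [2, -2, -2, -2, -2, 2, -2, -2], [2, -2, -2, -2, -2, 2, 2, 2], [2, -2, -2, -2, 2, -2, -2, -2],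
  [2, -2, -2, -2, 2, -2, 2, 2], [2, -2, -2, -2, 2, 2, -2, 2], [2, -2, -2, -2, 2, 2, 2, -2],
  [2, -2, -2, 2, -2, -2, -2, -2], [2, -2, -2, 2, -2, -2, 2, 2], [2, -2, -2, 2, -2, 2, -2, 2],
  [2, -2, -2, 2, -2, 2, 2, -2], [2, -2, -2, 2, 2, -2, -2, 2], [2, -2, -2, 2, 2, -2, 2, -2],
  [2, -2, -2, 2, 2, 2, -2, -2], [2, -2, -2, 2, 2, 2, 2, 2], [2, -2, 2, -2, -2, -2, -2, -2],
  [2, -2, 2, -2, -2, -2, 2, 2], [2, -2, 2, -2, -2, 2, -2, 2], [2, -2, 2, -2, -2, 2, 2, -2],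
  [2, -2, 2, -2, 2, -2, -2, 2], [2, -2, 2, -2, 2, -2, 2, -2], [2, -2, 2, -2, 2, 2, -2, -2],
  [2, -2, 2, -2, 2, 2, 2, 2], [2, -2, 2, 2, -2, -2, -2, 2], [2, -2, 2, 2, -2, -2, 2, -2],
  [2, -2, 2, 2, -2, 2, -2, -2], [2, -2, 2, 2, -2, 2, 2, 2], [2, -2, 2, 2, 2, -2, -2, -2],
  [2, -2, 2, 2, 2, -2, 2, 2], [2, -2, 2, 2, 2, 2, -2, 2], [2, -2, 2, 2, 2, 2, 2, -2],
  [4, 4, 0, 0, 0, 0, 0, 0], [0, 4, -4, 0, 0, 0, 0, 0], [0, 4, 0, -4, 0, 0, 0, 0],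
  [0, 4, 0, 0, -4, 0, 0, 0], [0, 4, 0, 0, 0, -4, 0, 0], [0, 4, 0, 0, 0, 0, -4, 0],
  [0, 4, 0, 0, 0, 0, 0, -4], [0, 4, 0, 0, 0, 0, 0, 4], [0, 4, 0, 0, 0, 0, 4, 0],
  [0, 4, 0, 0, 0, 4, 0, 0], [0, 4, 0, 0, 4, 0, 0, 0], [0, 4, 0, 4, 0, 0, 0, 0],
  [0, 4, 4, 0, 0, 0, 0, 0], [4, 0, -4, 0, 0, 0, 0, 0], [4, 0, 0, -4, 0, 0, 0, 0],
  [4, 0, 0, 0, -4, 0, 0, 0], [4, 0, 0, 0, 0, -4, 0, 0], [4, 0, 0, 0, 0, 0, -4, 0],
  [4, 0, 0, 0, 0, 0, 0, -4], [4, 0, 0, 0, 0, 0, 0, 4], [4, 0, 0, 0, 0, 0, 4, 0],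
  [4, 0, 0, 0, 0, 4, 0, 0], [4, 0, 0, 0, 4, 0, 0, 0], [4, 0, 0, 4, 0, 0, 0, 0],
  [4, 0, 4, 0, 0, 0, 0, 0], [2, 2, -2, -2, -2, -2, -2, -2], [2, 2, -2, -2, -2, -2, 2, 2],
  [2, 2, -2, -2, -2, 2, -2, 2], [2, 2, -2, -2, -2, 2, 2, -2], [2, 2, -2, -2, 2, -2, -2, 2],
  [2, 2, -2, -2, 2, -2, 2, -2], [2, 2, -2, -2, 2, 2, -2, -2], [2, 2, -2, -2, 2, 2, 2, 2],
  [2, 2, -2, 2, -2, -2, -2, 2], [2, 2, -2, 2, -2, -2, 2, -2], [2, 2, -2, 2, -2, 2, -2, -2],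
  [2, 2, -2, 2, -2, 2, 2, 2], [2, 2, -2, 2, 2, -2, -2, -2], [2, 2, -2, 2, 2, -2, 2, 2],
  [2, 2, -2, 2, 2, 2, -2, 2], [2, 2, -2, 2, 2, 2, 2, -2], [2, 2, 2, -2, -2, -2, -2, 2],
  [2, 2, 2, -2, -2, -2, 2, -2], [2, 2, 2, -2, -2, 2, -2, -2], [2, 2, 2, -2, -2, 2, 2, 2],
  [2, 2, 2, -2, 2, -2, -2, -2], [2, 2, 2, -2, 2, -2, 2, 2], [2, 2, 2, -2, 2, 2, -2, 2],
  [2, 2, 2, -2, 2, 2, 2, -2], [2, 2, 2, 2, -2, -2, -2, -2], [2, 2, 2, 2, -2, -2, 2, 2],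
  [2, 2, 2, 2, -2, 2, -2, 2], [2, 2, 2, 2, -2, 2, 2, -2], [2, 2, 2, 2, 2, -2, -2, 2],
  [2, 2, 2, 2, 2, -2, 2, -2], [2, 2, 2, 2, 2, 2, -2, -2], [2, 2, 2, 2, 2, 2, 2, 2]]

/-- Coordinates modulo two in a hyperbolic basis. -/
def coordL8 : List ℕ := [
  136, 137, 78, 198, 199, 79, 139, 197, 77, 76, 196, 138, 168, 35, 109, 229,
  228, 108, 34, 169, 142, 38, 173, 227, 107, 106, 226, 172, 39, 143, 141, 94,
  214, 152, 17, 19, 154, 212, 92, 187, 50, 124, 244, 247, 127, 49, 184, 53,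
  188, 242, 122, 121, 241, 191, 54, 209, 89, 23, 158, 156, 21, 91, 211, 140,
  200, 70, 238, 101, 43, 163, 162, 42, 100, 239, 71, 201, 69, 203, 99, 232,
  166, 46, 47, 167, 233, 98, 202, 68, 253, 116, 58, 178, 177, 57, 119, 254,
  25, 145, 223, 86, 84, 221, 147, 27, 151, 31, 81, 216, 218, 83, 29, 149,
  114, 251, 181, 61, 62, 182, 248, 113]

/-- Orthogonal pairs of roots with sums the basis vectors. -/
def basL8 : List (ℕ × ℕ) := [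
  (0, 1), (0, 11), (0, 63), (2, 65), (0, 33), (0, 12), (0, 64), (3, 65)]

/-- A further element normalising the octad sublattice. -/
def extraGen : Gen := [(0x1100a130d160e070b0512150c04140f0806110902000317, 0xda91b4)]

/-- The actions of the generators on the 120 roots. -/
def genPerms8 : List (List ℕ) := [
  [0, 1, 2, 3, 4, 5, 6, 7, 8, 9, 10, 11, 21, 22, 23, 24, 25, 26, 27, 28, 20, 12, 13, 14, 15, 16, 17, 18, 19, 29, 30, 31, 32, 33, 34, 35, 36, 37, 38, 47, 48, 49, 50, 51, 52, 53, 54, 39, 40, 41, 42, 43, 44, 45, 46, 55, 56, 57, 58, 59, 60, 61, 62, 63, 86, 87, 85, 84, 83, 82, 81, 80, 79, 78, 76, 77, 74, 75, 73, 72, 71, 70, 69, 68, 67, 66, 64, 65, 119, 118, 117, 116, 115, 114, 113, 112, 103, 102, 101, 100, 99, 98, 97, 96, 111, 110, 109, 108, 107, 106, 105, 104, 95, 94, 93, 92, 91, 90, 89, 88],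
  [8, 29, 12, 15, 28, 25, 20, 21, 24, 19, 16, 9, 46, 54, 58, 62, 34, 38, 42, 50, 30, 47, 39, 35, 31, 59, 55, 51, 43, 5, 2, 3, 6, 13, 27, 22, 18, 11, 4, 60, 36, 40, 44, 48, 52, 56, 32, 33, 57, 53, 49, 45, 41, 37, 61, 1, 10, 17, 23, 26, 14, 7, 0, 63, 80, 68, 102, 110, 114, 118, 90, 94, 98, 106, 84, 72, 79, 67, 101, 109, 113, 117, 89, 93, 97, 105, 83, 71, 116, 92, 96, 100, 104, 108, 112, 88, 82, 85, 86, 76, 87, 77, 78, 81, 70, 73, 74, 64, 75, 65, 66, 69, 119, 95, 99, 103, 107, 111, 115, 91],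
  [22, 27, 29, 18, 13, 20, 15, 25, 4, 3, 24, 16, 9, 19, 21, 6, 11, 28, 12, 8, 7, 1, 17, 23, 2, 5, 26, 14, 0, 10, 30, 41, 55, 31, 49, 39, 57, 33, 47, 43, 61, 37, 51, 45, 59, 35, 53, 40, 58, 34, 48, 42, 56, 32, 50, 46, 60, 36, 54, 44, 62, 38, 52, 63, 68, 66, 70, 74, 64, 67, 72, 75, 65, 69, 73, 71, 80, 78, 82, 86, 76, 79, 84, 87, 77, 81, 85, 83, 96, 114, 90, 104, 98, 112, 88, 106, 102, 116, 92, 110, 100, 118, 94, 108, 99, 113, 89, 107, 97, 115, 91, 105, 101, 119, 95, 109, 103, 117, 93, 111],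
  [3, 4, 1, 5, 2, 0, 23, 25, 27, 22, 24, 26, 21, 7, 9, 11, 6, 8, 10, 28, 85, 87, 83, 81, 79, 84, 82, 80, 76, 78, 74, 96, 98, 99, 97, 114, 112, 113, 115, 102, 100, 101, 103, 116, 118, 119, 117, 52, 54, 53, 51, 38, 36, 35, 37, 50, 48, 47, 49, 32, 34, 33, 31, 65, 77, 19, 29, 17, 15, 13, 18, 16, 14, 20, 12, 86, 63, 66, 64, 68, 70, 72, 67, 69, 71, 75, 73, 30, 90, 88, 89, 91, 104, 106, 107, 105, 92, 94, 95, 93, 110, 108, 109, 111, 62, 60, 59, 61, 44, 46, 45, 43, 56, 58, 57, 55, 42, 40, 39, 41]]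

/-- A spanning tree of the roots from the fixed one: root, parent, generator. -/
def tree8 : List (ℕ × ℕ × ℕ) := [
  (65, 63, 3), (87, 65, 0), (68, 65, 1), (66, 65, 2), (19, 65, 3), (71, 87, 1),
  (83, 87, 2), (30, 87, 3), (114, 68, 1), (64, 68, 2), (15, 68, 3), (85, 66, 0),
  (102, 66, 1), (70, 66, 2), (29, 66, 3), (28, 19, 0), (50, 19, 1), (8, 19, 2),
  (80, 71, 0), (94, 71, 1), (75, 71, 2), (16, 71, 3), (93, 83, 1), (69, 83, 3),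
  (2, 30, 1), (74, 30, 3), (99, 114, 1), (95, 114, 2), (57, 114, 3), (86, 64, 0),
  (77, 64, 3), (24, 15, 0), (62, 15, 1), (6, 15, 2), (11, 15, 3), (105, 85, 1),
  (81, 85, 2), (97, 102, 0), (78, 102, 1), (109, 102, 3), (90, 70, 1), (72, 70, 2),
  (18, 70, 3), (5, 29, 1), (10, 29, 2), (43, 28, 1), (0, 28, 2), (76, 28, 3),
  (42, 50, 0), (49, 50, 1), (48, 50, 2), (51, 50, 3), (4, 8, 2), (27, 8, 3),
  (113, 80, 1), (112, 94, 1), (88, 94, 2), (107, 94, 3), (25, 16, 0), (34, 16, 1),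
  (108, 93, 1), (106, 93, 3), (82, 69, 0), (118, 69, 1), (67, 69, 2), (13, 69, 3),
  (12, 2, 1), (1, 2, 3), (84, 74, 1), (73, 74, 2), (100, 99, 0), (110, 99, 2),
  (17, 57, 1), (36, 57, 2), (47, 57, 3), (31, 24, 1), (79, 24, 3), (52, 62, 2),
  (20, 6, 1), (23, 6, 3), (9, 11, 1), (26, 11, 3), (60, 105, 3), (117, 81, 1),
  (116, 97, 2), (101, 78, 1), (115, 109, 2), (46, 109, 3), (96, 90, 1), (89, 90, 3),
  (98, 72, 1), (14, 72, 3), (45, 43, 2), (22, 0, 2), (3, 0, 3), (44, 42, 1),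
  (103, 42, 3), (41, 49, 0), (53, 49, 1), (40, 48, 0), (58, 48, 2), (54, 48, 3),
  (38, 51, 3), (119, 113, 2), (56, 112, 3), (61, 107, 3), (59, 25, 1), (39, 118, 3),
  (7, 13, 3), (21, 12, 0), (91, 110, 2), (33, 47, 1), (35, 23, 1), (55, 26, 1),
  (111, 117, 1), (92, 115, 0), (32, 46, 1), (37, 41, 2), (104, 91, 2)]

/-- An octad disjoint from the first. -/
def oMask2 : ℕ := 0x527c0

/-- A permutation carrying the first octad to the second. -/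
def octMove : ℕ := 0x6161311040b100205120e17000c0f1401030d150a090807

/-- Octads showing that only the identity fixes the complement of the octad pointwise. -/
def offClose : List (List ℕ × ℕ) :=
  [([0x3da1, 0x9959], 0), ([0x149f, 0x46e3], 1), ([0x149f, 0x8dc6], 2), ([0x149f], 3),
   ([0x293e], 5), ([0x46e3], 14), ([0x20ab9], 17), ([], 23)]

end Cfsg.Agent.Leech.OctadCent
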