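/-
Kernel checks on the tables for the centraliser of an octad sign change in the automorphism group.
-/
import Cfsg.Agent.Lib.Leech.OctadCent.DataFull
import Cfsg.Agent.Lib.Leech.OctadCent.Check
import Cfsg.Agent.Lib.Mathieu.Octads

set_option autoImplicit false
set_option maxRecDepth 20000

namespace Cfsg.Agent.Leech.OctadCent

open Cfsg

/-- The polar form of the hyperbolic quadratic form on eight-bit codes. -/
def formB8 (a b : ℕ) : Bool :=
  xor (xor (xor (xor (a.testBit 0 && b.testBit 4) (a.testBit 4 && b.testBit 0))
    (xor (a.testBit 1 && b.testBit 5) (a.testBit 5 && b.testBit 1)))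
    (xor (a.testBit 2 && b.testBit 6) (a.testBit 6 && b.testBit 2)))
    (xor (a.testBit 3 && b.testBit 7) (a.testBit 7 && b.testBit 3))

/-- The quadratic form on eight-bit codes. -/
def quadB8 (a : ℕ) : Bool :=
  xor (xor (xor (a.testBit 0 && a.testBit 4) (a.testBit 1 && a.testBit 5)) (a.testBit 2 && a.testBit 6))
    (a.testBit 3 && a.testBit 7)

/-- Membership among all roots up to sign. -/
def isRoot8 (l : List ℤ) : Bool := rootL8.any fun r => r == l || r.map (fun x => -x) == l

/-- Coordinates of a root. -/
def cd8 (i : ℕ) : ℕ := coordL8.getD i 0

theorem root8_len : (rootL8.length == 120 && coordL8.length == 120 && basL8.length == 8 &&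
    rootL8.all (fun l => l.length == 8) && rootL8.getD 63 [] == [4, 4, 0, 0, 0, 0, 0, 0] &&
    (List.range 63).all (fun i => rootL8.getD i [] == rootL.getD i [])) = true := by
  decide +kernel

theorem root8_facts : (rootL8.all fun l =>
    inLB (vecF l) && valsOf (vecF l) == l && dotL l l == 32) = true := by
  decide +kernel

theorem root8_nodup : (rootL8 ++ rootL8.map fun r => r.map fun x => -x).Nodup := by decide +kernel

theorem root8_form : ((List.range 120).all fun i => (List.range 120).all fun j =>
    dotL (rootL8.getD i []) (rootL8.getD j []) % 32 == if formB8 (cd8 i) (cd8 j) then 16 else 0) = true := by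
  decide +kernel

theorem coord8_facts : coordL8.Nodup ∧ (∀ c ∈ coordL8, c < 256) ∧
    ((List.range 256).all fun c => quadB8 c == coordL8.contains c) = true := by
  decide +kernel

theorem basis8_check : ((List.range 8).all fun k => match basL8.getD k (0, 0) with
    | (a, b) => a.blt 120 && b.blt 120 && (cd8 a ^^^ cd8 b) == 2 ^ k && !formB8 (cd8 a) (cd8 b)) = true := by
  decide +kernel

theorem class8_four : ((choices [-4, 0, 4] 8).all fun l => !(dotL l l == 32) || isRoot8 l) = true := by
  decide +kernel

theorem class8_two : ((choices [-2, 2] 8).all fun l => !(l.sum % 8 == 0) || isRoot8 l) = true := by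
  decide +kernel

/-- A generator with its action on all roots. -/
def genOK8 (a : Gen) (P : List ℕ) : Bool :=
  a.ok &&
    (List.range 24).all (fun i => (List.range 24).all fun n =>
      oMask.testBit i == oMask.testBit n || chainN a (fun m => if m = i then 8 else 0) n == 0) &&
    (List.range 120).all fun i => (P.getD i 0).blt 120 &&
      ((List.range 24).all (fun n => chainN a (vecO (rootL8.getD i [])) n == vecO (rootL8.getD (P.getD i 0) []) n) ||
      (List.range 24).all (fun n => chainN a (vecO (rootL8.getD i [])) n == -vecO (rootL8.getD (P.getD i 0) []) n))

theorem gens8_check : ((List.range 4).all fun k =>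
    genOK8 ((gens ++ [extraGen]).getD k []) (genPerms8.getD k [])) = true := by
  decide +kernel

/-- The tree reaches every root. -/
def treeOK8 : List ℕ → List (ℕ × ℕ × ℕ) → Bool
  | _, [] => true
  | known, (a, p, k) :: rest => k.blt 4 && known.contains p && (genPerms8.getD k []).getD p 0 == a &&
      treeOK8 (a :: known) rest

theorem tree8_check : (treeOK8 [63] tree8 &&
    (List.range 120).all fun i => i == 63 || (tree8.map Prod.fst).contains i) = true := by
  decide +kernel

theorem perp_check : ((List.range 256).all fun d => d == 0 || d == cd8 63 || formB8 d (cd8 63) ||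
    (List.range 63).any fun i => formB8 d (cd8 i)) = true := by
  decide +kernel

theorem perp_root_check : ((List.range 120).all fun y =>
    if formB8 (cd8 y) (cd8 63) then !y.blt 63 else y.blt 64) = true := by
  decide +kernel

theorem nonconst_check : ((List.range 120).all fun y => !formB8 (cd8 y) (cd8 63) ||
    (List.range 63).any fun i => (List.range 63).any fun j =>
      formB8 (cd8 y) (cd8 i) != formB8 (cd8 y) (cd8 j)) = true := by
  decide +kernel

theorem two_step_check : ((List.range 120).all fun y => (List.range 120).any fun z =>
    formB8 (cd8 63) (cd8 z) && formB8 (cd8 z) (cd8 y)) = true := by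
  decide +kernel

theorem off_const_check : ((List.range 4096).all fun c =>
    Mathieu.force (Mathieu.encC Mathieu.codeBasis c) fun m =>
      !(m &&& offMask == 0 || m &&& offMask == offMask) ||
        m == 0 || m == 16777215 || m == oMask || m == offMask) = true := by
  decide +kernel

theorem separated_check : ((List.range 24).all fun p => oMask.testBit p || (List.range 24).all fun n =>
    p == n || offWords.any fun m => m.testBit p != m.testBit n) = true := by
  decide +kernel

theorem offWords_weight : (offWords.all fun m => m == 0 ||
    [8, 16].contains (Mathieu.popc 24 m)) = true := by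
  decide +kernel

theorem offClose_check : Mathieu.closeOK offMask offClose = true := by decide +kernel

theorem octMove_check : (Mathieu.permOK 24 octMove && Mathieu.presCode octMove &&
    offWords.contains oMask2 && oMask2 != offMask && oMask2 != 0 &&
    (List.range 24).all fun n => oMask2.testBit (Mathieu.app octMove n) == oMask.testBit n) = true := by
  decide +kernel

end Cfsg.Agent.Leech.OctadCent
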