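/-
The centraliser in the stabiliser of a minimal vector of an octad sign change acts on the 63 pairs of
minimal vectors of the octad orthogonal to the fixed one, preserving a symplectic form modulo two.
-/
import Cfsg.Agent.Lib.Leech.OctadCent.Check
import Cfsg.Agent.Lib.Leech.Order
import Cfsg.Agent.Lib.ClassicalSimple.SympMatrix
import Cfsg.Agent.Lib.Forms.Symp
import Cfsg.Prelude.Def_Spor_Conway

set_option autoImplicit false
set_option maxRecDepth 20000

namespace Cfsg.Agent.Leech.OctadCent

open Cfsg Finset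
open scoped Matrix

/-- The point is in the octad. -/
def inO (p : GolayPt) : Bool := Mathieu.hasPt oMask p

theorem inO_iff {p : GolayPt} : inO p = true ↔ (Mathieu.ptEnc p).val ∈ oPts :=
  oPts_check.1.2 _ (Fin.isLt _)

theorem inO_idx {n : ℕ} (hn : n < 24) : inO (Mathieu.idx Mathieu.ptEnc n) = oMask.testBit n := by
  rw [inO, Mathieu.hasPt, Mathieu.idx_val hn]

/-- Vanishing off the octad. -/
def Supp (x : GolayPt → ℤ) : Prop := ∀ p, inO p = false → x p = 0

theorem sum_supp (F : GolayPt → ℤ) (hF : ∀ p, inO p = false → F p = 0) :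
    ∑ p, F p = (oPts.map fun n => F (Mathieu.idx Mathieu.ptEnc n)).sum := by
  have hnd : (oPts.map (Mathieu.idx Mathieu.ptEnc)).Nodup :=
    oPts_check.1.1.map_on fun a ha b hb e => by
      rw [← Mathieu.idx_val (e := Mathieu.ptEnc) (oPts_check.2 a ha), e,
        Mathieu.idx_val (oPts_check.2 b hb)]
  rw [← Finset.sum_subset (subset_univ (oPts.map (Mathieu.idx Mathieu.ptEnc)).toFinset) fun p _ hp => ?_,
    List.sum_toFinset _ hnd, List.map_map]
  · rfl
  · refine hF p (Bool.eq_false_iff.2 fun h => hp (List.mem_toFinset.2 (List.mem_map.2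
      ⟨_, inO_iff.1 h, ?_⟩)))
    exact Mathieu.idx_self p

theorem dotL_map (L : List ℕ) (f g : ℕ → ℤ) :
    dotL (L.map f) (L.map g) = (L.map fun n => f n * g n).sum := by
  induction L with
  | nil => rfl
  | cons a L ih => simp only [dotL, List.map_cons, List.zipWith_cons_cons, List.sum_cons] at ih ⊢; rw [ih]

theorem dotInt_supp {x y : GolayPt → ℤ} (hx : Supp x) : dotInt x y = dotL (valsOf x) (valsOf y) := by
  rw [valsOf, valsOf, dotL_map]
  exact sum_supp _ fun p hp => by rw [hx p hp, zero_mul]

theorem sqNorm_supp {x : GolayPt → ℤ} (hx : Supp x) : sqNorm x = dotL (valsOf x) (valsOf x) := by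
  rw [← dotInt_supp hx]
  exact sum_congr rfl fun i _ => sq (x i)

theorem supp_vecF {l : List ℤ} (hl : l.length ≤ 8) : Supp (vecF l) := fun p hp => by
  have h : (Mathieu.ptEnc p).val ∉ oPts := fun h => by
    rw [inO_iff.2 h] at hp
    cases hp
  rw [vecF, vecO, List.idxOf_of_notMem h]
  exact List.getD_eq_default l 0 hl

theorem eq_vecF {x : GolayPt → ℤ} (hx : Supp x) : x = vecF (valsOf x) := by
  funext p
  rcases hO : inO p with _ | _
  · rw [hx p hO, supp_vecF (by simp [valsOf, oPts]) p hO]
  · have hlt := List.idxOf_lt_length_of_mem (inO_iff.1 hO)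
    rw [vecF, vecO, valsOf, List.getD_eq_getElem _ _ (by simpa using hlt), List.getElem_map,
      List.getElem_idxOf hlt, Mathieu.idx_self]

theorem vecF_neg (l : List ℤ) : vecF (l.map fun x => -x) = -vecF l := by
  funext p
  simp only [vecF, vecO, Pi.neg_apply]
  have h := List.getD_map l (0 : ℤ) (n := oPts.idxOf (Mathieu.ptEnc p).val) (fun x : ℤ => -x)
  simpa using h

theorem root_mem {i : ℕ} (hi : i < 63) : rootL.getD i [] ∈ rootL := by
  have h := root_len
  simp only [Bool.and_eq_true, beq_iff_eq] at h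
  rw [List.getD_eq_getElem _ _ (h.1.1.1.1.1.symm ▸ hi)]
  exact List.getElem_mem _

theorem root_length {l : List ℤ} (hl : l ∈ rootL) : l.length = 8 := by
  have h := root_len
  simp only [Bool.and_eq_true, beq_iff_eq, List.all_eq_true] at h
  exact h.1.1.2 l hl

/-- A root. -/
def rootV (i : Fin 63) : leechLattice :=
  ⟨vecF (rootL.getD i.val []), mem_leechLattice.2 (inL_of_inLB
    (List.all_eq_true.1 root_inL _ (root_mem i.isLt)))⟩

theorem supp_rootV (i : Fin 63) : Supp (rootV i : GolayPt → ℤ) :=
  supp_vecF (root_length (root_mem i.isLt)).le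

theorem valsOf_rootV (i : Fin 63) : valsOf (rootV i : GolayPt → ℤ) = rootL.getD i.val [] :=
  beq_iff_eq.1 (List.all_eq_true.1 root_vals _ (root_mem i.isLt))

theorem valsOf_neg (x : GolayPt → ℤ) : valsOf (-x) = (valsOf x).map fun a => -a := by
  simp [valsOf, List.map_map, Function.comp_def]

theorem rootV_inj {i j : Fin 63} (h : rootV i = rootV j ∨ rootV i = -rootV j) : i = j := by
  have hnd := List.nodup_append.1 root_nodup
  rcases h with h | h
  · have e := congrArg (fun v : leechLattice => valsOf (v : GolayPt → ℤ)) h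
    simp only [valsOf_rootV] at e
    have hl := root_len
    simp only [Bool.and_eq_true, beq_iff_eq] at hl
    have hi : i.val < rootL.length := hl.1.1.1.1.1.symm ▸ i.isLt
    have hj : j.val < rootL.length := hl.1.1.1.1.1.symm ▸ j.isLt
    rw [List.getD_eq_getElem _ _ hi, List.getD_eq_getElem _ _ hj] at e
    exact Fin.ext ((hnd.1.getElem_inj_iff).1 e)
  · have e := congrArg (fun v : leechLattice => valsOf (v : GolayPt → ℤ)) h
    simp only [AddSubgroup.coe_neg, valsOf_neg, valsOf_rootV] at e
    exact absurd rfl (hnd.2.2 _ (root_mem i.isLt) _ (List.mem_map.2 ⟨_, root_mem j.isLt, e.symm⟩))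

theorem leechU_val : (Spor.leechU : GolayPt → ℤ) = vecF [4, 4, 0, 0, 0, 0, 0, 0] := by
  have h : ∀ p, Spor.vecU p = vecF [4, 4, 0, 0, 0, 0, 0, 0] p := by decide +kernel
  exact funext h

theorem valsOf_leechU : valsOf (Spor.leechU : GolayPt → ℤ) = [4, 4, 0, 0, 0, 0, 0, 0] := by
  rw [leechU_val]
  decide +kernel

theorem supp_leechU : Supp (Spor.leechU : GolayPt → ℤ) := by
  rw [leechU_val]
  exact supp_vecF le_rfl

theorem oWord_mem : Mathieu.wordOf oMask ∈ golayCode := by
  have h := oMask_check
  simp only [Bool.and_eq_true] at h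
  exact Mathieu.wordOf_mem_of_inCode h.1.1.1

/-- The sign change off the octad. -/
def zElt : Co0 := negElt * signElt (Mathieu.wordOf oMask) oWord_mem

theorem zElt_smul (x : leechLattice) (p : GolayPt) : ((zElt • x : leechLattice) : GolayPt → ℤ) p =
    if inO p then (x : GolayPt → ℤ) p else -(x : GolayPt → ℤ) p := by
  rw [zElt, mul_smul, negElt_smul, AddSubgroup.coe_neg, Pi.neg_apply, signElt_smul]
  simp only [signFun, mem_supp, Mathieu.wordOf, inO]
  by_cases h : Mathieu.hasPt oMask p = true <;> simp [h]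

theorem zElt_fix_iff {x : leechLattice} : zElt • x = x ↔ Supp (x : GolayPt → ℤ) := by
  constructor
  · intro h p hp
    have := congrArg (fun v : leechLattice => (v : GolayPt → ℤ) p) h
    simp only [zElt_smul, hp, Bool.false_eq_true, if_false] at this
    omega
  · refine fun h => Subtype.ext (funext fun p => ?_)
    rw [zElt_smul]
    cases hp : inO p
    · simp [h p hp]
    · simp

/-- The centraliser. -/
def cGrp : Subgroup Co0 := MulAction.stabilizer Co0 Spor.leechU ⊓ Subgroup.centralizer {zElt}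

theorem mem_cGrp {g : Co0} : g ∈ cGrp ↔ g • Spor.leechU = Spor.leechU ∧ g * zElt = zElt * g := by
  simp [cGrp, Subgroup.mem_centralizer_singleton_iff, eq_comm]

theorem root_cases {x : leechLattice} (hn : sqNorm (x : GolayPt → ℤ) = 32)
    (hs : Supp (x : GolayPt → ℤ))
    (hd : dotInt (Spor.leechU : GolayPt → ℤ) (x : GolayPt → ℤ) = 0) :
    ∃ i, x = rootV i ∨ x = -rootV i := by
  have hx := mem_leechLattice.1 x.2
  set f : GolayPt → ℤ := (x : GolayPt → ℤ) with hf
  have hval : dotL (valsOf f) (valsOf f) = 32 := by rw [← sqNorm_supp hs, hn]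
  have hdot : dotL [4, 4, 0, 0, 0, 0, 0, 0] (valsOf f) = 0 := by
    rw [← valsOf_leechU, ← dotInt_supp supp_leechU, hd]
  have hq : inO (Mathieu.idx Mathieu.ptEnc 4) = false := by decide +kernel
  have heven : ∀ p, f p % 2 = 0 := fun p => by
    have h1 := hx.1 p
    have h2 := hx.1 (Mathieu.idx Mathieu.ptEnc 4)
    rw [hs _ hq] at h2
    omega
  obtain ⟨m, hm, hmw⟩ := Mathieu.mem_golayCode_iff.1 hx.2.1
  have hbit : ∀ p, (f p / 2 % 2 = 1 ↔ Mathieu.hasPt m p = true) := fun p => by
    rw [← hb_eq_one_iff, ← hmw, Mathieu.wordOf]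
    cases Mathieu.hasPt m p <;> simp
  have hmO : m = 0 ∨ m = oMask := by
    have hmem := Mathieu.inCode_iff_mem.1 hm
    rw [Mathieu.codeList, List.mem_map] at hmem
    obtain ⟨c, hc, rfl⟩ := hmem
    have h := List.all_eq_true.1 code_in_octad c hc
    simp only [Mathieu.force_eq, Bool.or_eq_true, Bool.not_eq_true', beq_eq_false_iff_ne, ne_eq,
      beq_iff_eq] at h
    rcases h with (h | h) | h
    · refine absurd (Nat.eq_of_testBit_eq fun n => ?_) h
      rw [Nat.zero_testBit, Nat.testBit_and]
      by_cases hn : n < 24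
      · by_contra hne
        simp only [Bool.not_eq_false, Bool.and_eq_true] at hne
        have ho := List.all_eq_true.1 (by
          have h' := oMask_check
          simp only [Bool.and_eq_true] at h'
          exact h'.2) n (List.mem_range.2 hn)
        rw [hne.2, beq_iff_eq] at ho
        have hz := hs (Mathieu.idx Mathieu.ptEnc n) (by rw [inO_idx hn]; simpa using ho.symm)
        have := (hbit (Mathieu.idx Mathieu.ptEnc n)).2 (by
          rw [Mathieu.hasPt, Mathieu.idx_val hn]; exact hne.1)
        rw [hz] at this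
        norm_num at this
      · rw [Nat.testBit_lt_two_pow (lt_of_lt_of_le (show offMask < 2 ^ 24 by decide +kernel)
          (Nat.pow_le_pow_right (by norm_num) (by omega))), Bool.and_false]
    · exact Or.inl h
    · exact Or.inr h
  have hb : ∀ p, -5 ≤ f p ∧ f p ≤ 5 := fun p => by
    have : f p ^ 2 ≤ 32 := hn ▸ Finset.single_le_sum (f := fun j => f j ^ 2) (fun _ _ => sq_nonneg _)
      (mem_univ p)
    constructor <;> nlinarith
  have hroot : isRoot (valsOf f) = true := by
    rcases hmO with rfl | rfl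
    · have hmem := mem_choices [-4, 0, 4] 8 (valsOf f) (by simp [valsOf, oPts]) fun y hy => by
        obtain ⟨n, -, rfl⟩ := List.mem_map.1 hy
        obtain ⟨b1, b2⟩ := hb (Mathieu.idx Mathieu.ptEnc n)
        have h2 := heven (Mathieu.idx Mathieu.ptEnc n)
        have h4 : ¬ f (Mathieu.idx Mathieu.ptEnc n) / 2 % 2 = 1 := by
          rw [hbit]; simp [Mathieu.hasPt]
        simp only [List.mem_cons, List.not_mem_nil, or_false]
        omega
      have h := List.all_eq_true.1 class_four _ hmem
      rw [hval, hdot] at h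
      simpa using h
    · have hmem := mem_choices [-2, 2] 8 (valsOf f) (by simp [valsOf, oPts]) fun y hy => by
        obtain ⟨n, hn', rfl⟩ := List.mem_map.1 hy
        obtain ⟨b1, b2⟩ := hb (Mathieu.idx Mathieu.ptEnc n)
        have h2 := heven (Mathieu.idx Mathieu.ptEnc n)
        have h4 : f (Mathieu.idx Mathieu.ptEnc n) / 2 % 2 = 1 := by
          rw [hbit, Mathieu.hasPt, Mathieu.idx_val (oPts_check.2 n hn'),
            oPts_check.1.2 n (oPts_check.2 n hn')]
          exact hn'
        simp only [List.mem_cons, List.not_mem_nil, or_false]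
        omega
      have h := List.all_eq_true.1 class_two _ hmem
      have hsum : (valsOf f).sum % 8 = 0 := by
        have e : ∑ p, f p = (valsOf f).sum := sum_supp f hs
        have h3 := hx.2.2
        have h0 := heven none
        rw [← e]
        omega
      rw [hsum, hdot] at h
      simpa using h
  simp only [isRoot, List.any_eq_true, Bool.or_eq_true, beq_iff_eq] at hroot
  obtain ⟨r, hr, hcase⟩ := hroot
  obtain ⟨i, hi, rfl⟩ := List.mem_iff_getElem.1 hr
  have hi63 : i < 63 := by
    have h := root_len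
    simp only [Bool.and_eq_true, beq_iff_eq] at h
    omega
  have hget : rootL.getD i [] = rootL[i] := List.getD_eq_getElem _ _ hi
  refine ⟨⟨i, hi63⟩, hcase.imp (fun e => ?_) fun e => ?_⟩
  · refine Subtype.ext ?_
    show f = vecF (rootL.getD i [])
    exact (eq_vecF hs).trans (congrArg vecF (e.symm.trans hget.symm))
  · refine Subtype.ext ?_
    rw [AddSubgroup.coe_neg]
    show f = -vecF (rootL.getD i [])
    rw [← vecF_neg]
    exact (eq_vecF hs).trans (congrArg vecF (e.symm.trans (congrArg (List.map fun y => -y) hget.symm)))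

theorem exists_act (g : cGrp) (i : Fin 63) :
    ∃ j, (g : Co0) • rootV i = rootV j ∨ (g : Co0) • rootV i = -rootV j := by
  obtain ⟨hv, hz⟩ := mem_cGrp.1 g.2
  have hroot := List.all_eq_true.1 root_norm _ (root_mem i.isLt)
  simp only [Bool.and_eq_true, beq_iff_eq] at hroot
  refine root_cases ?_ (zElt_fix_iff.1 ?_) ?_
  · rw [co0_norm, sqNorm_supp (supp_rootV i), valsOf_rootV]
    exact hroot.1
  · rw [← mul_smul, ← hz, mul_smul, zElt_fix_iff.2 (supp_rootV i)]
  · rw [← hv, co0_dot, dotInt_supp supp_leechU, valsOf_leechU, valsOf_rootV]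
    exact hroot.2

/-- The action on the roots up to sign. -/
noncomputable def act (g : cGrp) (i : Fin 63) : Fin 63 := (exists_act g i).choose

theorem act_spec (g : cGrp) (i : Fin 63) :
    (g : Co0) • rootV i = rootV (act g i) ∨ (g : Co0) • rootV i = -rootV (act g i) :=
  (exists_act g i).choose_spec

theorem act_eq {g : cGrp} {i j : Fin 63}
    (h : (g : Co0) • rootV i = rootV j ∨ (g : Co0) • rootV i = -rootV j) : act g i = j := by
  refine rootV_inj ?_
  rcases act_spec g i with h' | h' <;> rcases h with h | h <;> rw [h] at h'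
  · exact Or.inl h'.symm
  · exact Or.inr h'.symm
  · exact Or.inr (by rw [h', neg_neg])
  · exact Or.inl (neg_injective h').symm

theorem act_mul (g h : cGrp) (i : Fin 63) : act (g * h) i = act g (act h i) := by
  refine act_eq ?_
  rw [Subgroup.coe_mul, mul_smul]
  rcases act_spec h i with e | e <;> rw [e]
  · exact act_spec g _
  · rw [co0_neg]
    rcases act_spec g (act h i) with e' | e' <;> rw [e']
    · exact Or.inr rfl
    · exact Or.inl (neg_neg _)

/-- The six-bit code as a vector. -/
def vec6 (c : ℕ) : Fin 3 ⊕ Fin 3 → ZMod 2 :=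
  Sum.elim (fun k => if c.testBit k.val then 1 else 0) fun k => if c.testBit (3 + k.val) then 1 else 0

theorem form_check : ∀ a b : Fin 64, (∑ k : Fin 3, (vec6 a.val (.inr k) * vec6 b.val (.inl k) -
    vec6 a.val (.inl k) * vec6 b.val (.inr k))) = if formB a.val b.val then 1 else 0 := by
  decide +kernel

theorem form_vec6 {a b : ℕ} (ha : a < 64) (hb : b < 64) :
    sympForm 3 (ZMod 2) (vec6 a) (vec6 b) = if formB a b then 1 else 0 := by
  rw [Forms.sympForm_eq_sum]
  exact form_check ⟨a, ha⟩ ⟨b, hb⟩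

theorem vec6_inj : ∀ a b : Fin 64, vec6 a.val = vec6 b.val → a = b := by decide +kernel

theorem coord_lt (i : Fin 63) : coordL.getD i.val 0 < 64 := by
  have h := root_len
  simp only [Bool.and_eq_true, beq_iff_eq] at h
  have hi : i.val < coordL.length := by omega
  rw [List.getD_eq_getElem _ _ hi]
  exact (coord_nodup.2 _ (List.getElem_mem _)).2

/-- The vector of a root. -/
def vI (i : Fin 63) : Fin 3 ⊕ Fin 3 → ZMod 2 := vec6 (coordL.getD i.val 0)

theorem vI_injective : Function.Injective vI := by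
  intro i j h
  have h' := congrArg Fin.val (vec6_inj ⟨_, coord_lt i⟩ ⟨_, coord_lt j⟩ h)
  have hl := root_len
  simp only [Bool.and_eq_true, beq_iff_eq] at hl
  have hi : i.val < coordL.length := by omega
  have hj : j.val < coordL.length := by omega
  simp only [List.getD_eq_getElem _ _ hi, List.getD_eq_getElem _ _ hj] at h'
  exact Fin.ext ((coord_nodup.1.getElem_inj_iff).1 h')

theorem form_vI (i j : Fin 63) : sympForm 3 (ZMod 2) (vI i) (vI j) =
    if dotInt (rootV i : GolayPt → ℤ) (rootV j : GolayPt → ℤ) % 32 = 16 then 1 else 0 := by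
  have h := List.all_eq_true.1 (List.all_eq_true.1 root_form i.val (List.mem_range.2 i.isLt)) j.val
    (List.mem_range.2 j.isLt)
  rw [beq_iff_eq] at h
  rw [vI, vI, form_vec6 (coord_lt i) (coord_lt j), dotInt_supp (supp_rootV i), valsOf_rootV,
    valsOf_rootV, h]
  cases formB (coordL.getD i.val 0) (coordL.getD j.val 0) <;> simp

theorem form_act (g : cGrp) (i j : Fin 63) :
    sympForm 3 (ZMod 2) (vI (act g i)) (vI (act g j)) = sympForm 3 (ZMod 2) (vI i) (vI j) := by
  rw [form_vI, form_vI]
  have h := co0_dot (g : Co0) (rootV i) (rootV j)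
  have hneg : ∀ x y : GolayPt → ℤ, dotInt (-x) y = -dotInt x y ∧ dotInt x (-y) = -dotInt x y :=
    fun x y => ⟨by simp [dotInt], by simp [dotInt]⟩
  refine if_congr ?_ rfl rfl
  rcases act_spec g i with e | e <;> rcases act_spec g j with e' | e' <;> rw [e, e'] at h <;>
    first
      | omega
      | (simp only [AddSubgroup.coe_neg, (hneg _ _).1, (hneg _ _).2, neg_neg] at h; omega)

theorem bas_lt (k : ℕ) (hk : k < 6) : basL.getD k 0 < 63 := by
  have h := root_len
  simp only [Bool.and_eq_true, beq_iff_eq, List.all_eq_true, Nat.blt_eq] at h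
  rw [List.getD_eq_getElem _ _ (by omega)]
  exact h.1.2 _ (List.getElem_mem _)

/-- Number of a basis vector. -/
def basNum : Fin 3 ⊕ Fin 3 → ℕ := Sum.elim (fun k => k.val) fun k => 3 + k.val

theorem basNum_lt (l : Fin 3 ⊕ Fin 3) : basNum l < 6 := by
  rcases l with k | k <;> simp [basNum] <;> omega

/-- The root of a basis vector. -/
def bas (l : Fin 3 ⊕ Fin 3) : Fin 63 := ⟨basL.getD (basNum l) 0, bas_lt _ (basNum_lt l)⟩

theorem vec6_basis : ∀ l : Fin 3 ⊕ Fin 3, vec6 (2 ^ basNum l) = Pi.single l 1 := by decide +kernel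

theorem vI_bas (l : Fin 3 ⊕ Fin 3) : vI (bas l) = Pi.single l 1 := by
  have h := beq_iff_eq.1 (List.all_eq_true.1 coord_basis _ (List.mem_range.2 (basNum_lt l)))
  rw [← vec6_basis, ← h]
  rfl

/-- The matrix of the action. -/
noncomputable def matOf (g : cGrp) : Matrix (Fin 3 ⊕ Fin 3) (Fin 3 ⊕ Fin 3) (ZMod 2) :=
  fun r l => vI (act g (bas l)) r

theorem matOf_mem (g : cGrp) : matOf g ∈ Matrix.symplecticGroup (Fin 3) (ZMod 2) := by
  rw [SymplecticGroup.mem_iff']
  ext k l
  have e : ((matOf g)ᵀ * Matrix.J (Fin 3) (ZMod 2) * matOf g) k l =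
      sympForm 3 (ZMod 2) (vI (act g (bas k))) (vI (act g (bas l))) := by
    rw [Matrix.mul_assoc]
    rfl
  rw [e, form_act, vI_bas, vI_bas]
  simp [sympForm, Matrix.mulVec_single]

/-- The action as a symplectic matrix. -/
noncomputable def sympOf (g : cGrp) : Matrix.symplecticGroup (Fin 3) (ZMod 2) := ⟨matOf g, matOf_mem g⟩

theorem eq_of_form {y y' : Fin 3 ⊕ Fin 3 → ZMod 2}
    (h : ∀ l, sympForm 3 (ZMod 2) y (Pi.single l 1) = sympForm 3 (ZMod 2) y' (Pi.single l 1)) :
    y = y' := by
  have h' : ClassicalSimple.sympBilin 3 (ZMod 2) y = ClassicalSimple.sympBilin 3 (ZMod 2) y' :=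
    (Pi.basisFun (ZMod 2) (Fin 3 ⊕ Fin 3)).ext fun l => by
      rw [Pi.basisFun_apply, ClassicalSimple.sympBilin_apply, ClassicalSimple.sympBilin_apply]
      exact h l
  refine sub_eq_zero.1 (ClassicalSimple.sympBilin_nondegenerate.1 _ fun z => ?_)
  rw [map_sub, LinearMap.sub_apply, h', sub_self]

theorem matOf_basis (g : cGrp) (l : Fin 3 ⊕ Fin 3) :
    matOf g *ᵥ Pi.single l 1 = vI (act g (bas l)) := by
  rw [Matrix.mulVec_single_one]
  rfl

theorem sympOf_apply (g : cGrp) (i : Fin 63) : (sympOf g).1 *ᵥ vI i = vI (act g i) := by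
  have hinv : (sympOf g).1 *ᵥ ((sympOf g)⁻¹.1 *ᵥ vI (act g i)) = vI (act g i) := by
    rw [Matrix.mulVec_mulVec, ← Submonoid.coe_mul, mul_inv_cancel, Submonoid.coe_one, Matrix.one_mulVec]
  have hy : (sympOf g)⁻¹.1 *ᵥ vI (act g i) = vI i := eq_of_form fun l => by
    rw [← ClassicalSimple.sympBilin_apply,
      ← ClassicalSimple.mem_symplecticGroup_iff_form.1 (sympOf g).2, hinv,
      show (sympOf g).1 = matOf g from rfl, matOf_basis, ClassicalSimple.sympBilin_apply, form_act,
      vI_bas]
  rw [← hy, hinv]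

theorem symp_ext {A B : Matrix.symplecticGroup (Fin 3) (ZMod 2)}
    (h : ∀ l, A.1 *ᵥ Pi.single l 1 = B.1 *ᵥ Pi.single l 1) : A = B := by
  refine Subtype.ext (Matrix.ext fun r l => ?_)
  have := congrFun (h l) r
  simpa using this

/-- The homomorphism onto `Sp(6, 2)`. -/
noncomputable def phi : cGrp →* Matrix.symplecticGroup (Fin 3) (ZMod 2) :=
  MonoidHom.mk' sympOf fun g h => symp_ext fun l => by
    rw [Submonoid.coe_mul, ← Matrix.mulVec_mulVec, ← vI_bas, sympOf_apply, sympOf_apply, sympOf_apply,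
      act_mul]

theorem phi_apply (g : cGrp) (i : Fin 63) : (phi g).1 *ᵥ vI i = vI (act g i) := sympOf_apply g i

theorem mem_ker_phi {g : cGrp} : g ∈ phi.ker ↔ ∀ i, act g i = i := by
  rw [MonoidHom.mem_ker]
  constructor
  · intro h i
    refine vI_injective ?_
    rw [← phi_apply, h, Submonoid.coe_one, Matrix.one_mulVec]
  · intro h
    refine symp_ext fun l => ?_
    rw [← vI_bas, phi_apply, h, Submonoid.coe_one, Matrix.one_mulVec]

end Cfsg.Agent.Leech.OctadCent
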