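/-
The action of the centraliser on the octad roots is the whole of `Sp(6, 2)`.
-/
import Cfsg.Agent.Lib.Leech.OctadCent.Roots
import Cfsg.Agent.Lib.GL.SympOrders
import Cfsg.Prelude.Def_Solvable

set_option autoImplicit false
set_option maxRecDepth 20000

namespace Cfsg.Agent.Leech.OctadCent

open Cfsg Finset
open scoped Matrix

theorem eight_idx {i : ℕ} (hi : i < 24) : (eight (Mathieu.idx Mathieu.ptEnc i) : GolayPt → ℤ) =
    fun p => if (Mathieu.ptEnc p).val = i then (8 : ℤ) else 0 := by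
  funext p
  rw [eight_val, Pi.single_apply]
  refine if_congr ⟨fun h => by rw [h, Mathieu.idx_val hi], fun h => ?_⟩ rfl rfl
  rw [← h, Mathieu.idx_self]

theorem exists_gen_act {k : ℕ} (hk : k < 3) :
    ∃ g : cGrp, ∀ i : Fin 63, (act g i).val = (genPerms.getD k []).getD i.val 0 := by
  have h := List.all_eq_true.1 gens_check k (List.mem_range.2 hk)
  simp only [genOK, Gen.ok, Bool.and_eq_true, List.all_eq_true (p := fun i : ℕ => _), List.mem_range,
    beq_iff_eq, Bool.or_eq_true, Nat.blt_eq] at h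
  obtain ⟨⟨⟨hok, hfix⟩, hz⟩, hroot⟩ := h
  obtain ⟨a, ha⟩ := exists_chain (gens.getD k []) hok
  have hv : a • Spor.leechU = Spor.leechU := Subtype.ext (by
    rw [ha (vecO [4, 4, 0, 0, 0, 0, 0, 0]) _ leechU_val, leechU_val]
    funext p
    exact hfix _ (Fin.isLt _))
  have he : ∀ p q, inO p ≠ inO q → ((a • eight p : leechLattice) : GolayPt → ℤ) q = 0 := by
    intro p q hne
    rw [← Mathieu.idx_self (e := Mathieu.ptEnc) p, ha (fun m => if m = (Mathieu.ptEnc p).val then 8 else 0) _
      (eight_idx (Fin.isLt _))]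
    rcases hz _ (Fin.isLt (Mathieu.ptEnc p)) _ (Fin.isLt (Mathieu.ptEnc q)) with h | h
    · exact absurd h hne
    · exact h
  have hcomm : a * zElt = zElt * a := co0_ext _ _ fun p => by
    rw [mul_smul, mul_smul]
    have hzp : zElt • eight p = if inO p then eight p else -eight p := by
      refine Subtype.ext (funext fun q => ?_)
      rw [zElt_smul]
      by_cases hpq : q = p
      · subst hpq
        cases inO q <;> simp
      · cases inO p <;> cases inO q <;> simp [eight_val, Pi.single_eq_of_ne hpq]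
    refine Subtype.ext (funext fun q => ?_)
    rw [zElt_smul, hzp]
    have h0 := he p q
    cases hp : inO p <;> cases hq : inO q <;> simp [hp, hq] at h0 <;>
      simp [co0_neg, h0]
  refine ⟨⟨a, mem_cGrp.2 ⟨hv, hcomm⟩⟩, fun i => ?_⟩
  obtain ⟨hlt, hcase⟩ := hroot i.val i.isLt
  rw [act_eq (g := ⟨a, mem_cGrp.2 ⟨hv, hcomm⟩⟩) (j := ⟨_, hlt⟩) (i := i) ?_]
  rcases hcase with hc | hc
  · refine Or.inl (Subtype.ext ?_)
    show ((a • rootV i : leechLattice) : GolayPt → ℤ) = _
    rw [ha (vecO (rootL.getD i.val [])) _ rfl]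
    funext p
    exact hc _ (Fin.isLt _)
  · refine Or.inr (Subtype.ext ?_)
    show ((a • rootV i : leechLattice) : GolayPt → ℤ) = _
    rw [ha (vecO (rootL.getD i.val [])) _ rfl]
    funext p
    exact hc _ (Fin.isLt _)

/-- The root whose transvection is found first. -/
def w0F : Fin 63 := ⟨w0, by decide +kernel⟩

/-- The transvection at a vector. -/
noncomputable def transv (w : Fin 3 ⊕ Fin 3 → ZMod 2) : Matrix.symplecticGroup (Fin 3) (ZMod 2) :=
  ⟨Cfsg.sympTransvection 3 w 1, ClassicalSimple.sympTransvection_mem w 1⟩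

theorem transv_apply (w x : Fin 3 ⊕ Fin 3 → ZMod 2) :
    (transv w).1 *ᵥ x = x + sympForm 3 (ZMod 2) x w • w := by
  rw [transv, ClassicalSimple.sympTransvection_mulVec, one_mul, ClassicalSimple.sympBilin_apply]

theorem vec6_xor : ∀ a b : Fin 64, vec6 (a.val ^^^ b.val) = vec6 a.val + vec6 b.val := by decide +kernel

theorem transv_mem_range : transv (vI w0F) ∈ phi.range := by
  obtain ⟨g, hg⟩ := exists_gen_act (k := 0) (by norm_num)
  refine ⟨g, symp_ext fun l => ?_⟩
  rw [transv_apply, ← vI_bas, phi_apply, vI_bas]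
  have h := List.all_eq_true.1 transvection_check _ (List.mem_range.2 (basNum_lt l))
  rw [beq_iff_eq] at h
  have e : vI (act g (bas l)) = vec6 ((if formB (2 ^ basNum l) (coordL.getD w0 0) then
      2 ^ basNum l ^^^ coordL.getD w0 0 else 2 ^ basNum l)) := by
    rw [← h, vI, hg]
    rfl
  have hl : 2 ^ basNum l < 64 := Nat.pow_lt_pow_right (by norm_num) (basNum_lt l) |>.trans_le (by norm_num)
  rw [e, ← vec6_basis, show vI w0F = vec6 (coordL.getD w0 0) from rfl,
    form_vec6 hl (show coordL.getD w0 0 < 64 from coord_lt w0F)]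
  cases formB (2 ^ basNum l) (coordL.getD w0 0)
  · simp
  · rw [if_pos rfl, if_pos rfl, one_smul]
    exact vec6_xor ⟨_, hl⟩ ⟨coordL.getD w0 0, coord_lt w0F⟩

theorem orbit_all (i : Fin 63) : ∃ g : cGrp, act g w0F = i := by
  have h := tree_check
  rw [Bool.and_eq_true] at h
  obtain ⟨hT, hcov⟩ := h
  have key : ∀ (steps : List (ℕ × ℕ × ℕ)) (known : List ℕ),
      (∀ a ∈ known, ∃ g : cGrp, (act g w0F).val = a) → treeOK known steps = true →
      ∀ a ∈ steps.map Prod.fst, ∃ g : cGrp, (act g w0F).val = a := by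
    intro steps
    induction steps with
    | nil => simp
    | cons s rest ih =>
      obtain ⟨a, p, k⟩ := s
      intro known hk hok b hb
      simp only [treeOK, Bool.and_eq_true, Nat.blt_eq, List.contains_iff_mem, beq_iff_eq] at hok
      obtain ⟨⟨⟨hk3, hp⟩, happ⟩, hrest⟩ := hok
      obtain ⟨g, hg⟩ := hk p hp
      obtain ⟨d, hd⟩ := exists_gen_act hk3
      have hnew : ∃ e : cGrp, (act e w0F).val = a := ⟨d * g, by rw [act_mul, hd, hg, happ]⟩
      rcases List.mem_cons.1 hb with rfl | hb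
      · exact hnew
      · exact ih (a :: known) (fun c hc => (List.mem_cons.1 hc).elim (fun e => e ▸ hnew) (hk c)) hrest b hb
  have hone : (act (1 : cGrp) w0F).val = w0 := congrArg Fin.val (act_eq (g := 1) (i := w0F) (j := w0F) (Or.inl (one_smul Co0 _)))
  have hi := List.all_eq_true.1 hcov i.val (List.mem_range.2 i.isLt)
  simp only [Bool.or_eq_true, beq_iff_eq, List.contains_iff_mem] at hi
  rcases hi with hi | hi
  · exact ⟨1, Fin.ext (hone.trans hi.symm)⟩
  · obtain ⟨g, hg⟩ := key tree [w0] (fun a ha => ⟨1, by rw [List.mem_singleton.1 ha]; exact hone⟩) hT _ hi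
    exact ⟨g, Fin.ext hg⟩

theorem vI_surj : ∀ w : Fin 3 ⊕ Fin 3 → ZMod 2, w ≠ 0 → ∃ i, vI i = w := by
  have hcard : (univ.image vI).card = 63 := by
    rw [card_image_of_injective _ vI_injective, card_univ, Fintype.card_fin]
  have hne : ∀ i, vI i ≠ 0 := by decide +kernel
  have : univ.image vI = univ.erase 0 := by
    refine Finset.eq_of_subset_of_card_le (fun w hw => ?_) ?_
    · obtain ⟨i, -, rfl⟩ := mem_image.1 hw
      exact mem_erase.2 ⟨hne i, mem_univ _⟩
    · rw [hcard, card_erase_of_mem (mem_univ _), card_univ]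
      simp
  intro w hw
  have hmem : w ∈ univ.erase (0 : Fin 3 ⊕ Fin 3 → ZMod 2) := mem_erase.2 ⟨hw, mem_univ _⟩
  rw [← this] at hmem
  obtain ⟨i, -, hi⟩ := mem_image.1 hmem
  exact ⟨i, hi⟩

theorem transv_conj (A : Matrix.symplecticGroup (Fin 3) (ZMod 2)) (w : Fin 3 ⊕ Fin 3 → ZMod 2) :
    A * transv w * A⁻¹ = transv (A.1 *ᵥ w) := symp_ext fun l => by
  simp only [Submonoid.coe_mul, ← Matrix.mulVec_mulVec, transv_apply, Matrix.mulVec_add,
    Matrix.mulVec_smul]
  have hA : ∀ x, A.1 *ᵥ (A⁻¹.1 *ᵥ x) = x := fun x => by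
    rw [Matrix.mulVec_mulVec, ← Submonoid.coe_mul, mul_inv_cancel, Submonoid.coe_one, Matrix.one_mulVec]
  have hf : sympForm 3 (ZMod 2) (A⁻¹.1 *ᵥ Pi.single l 1) w =
      sympForm 3 (ZMod 2) (Pi.single l 1) (A.1 *ᵥ w) := by
    rw [← ClassicalSimple.sympBilin_apply, ← ClassicalSimple.mem_symplecticGroup_iff_form.1 A.2, hA,
      ClassicalSimple.sympBilin_apply]
  rw [hA, hf]

theorem phi_range : phi.range = ⊤ := by
  rw [← top_le_iff, ← ClassicalSimple.closure_sympTransvectionSet, Subgroup.closure_le]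
  rintro A ⟨w, c, hA⟩
  by_cases hc : c = 0
  · have : A = 1 := Subtype.ext (by rw [hA, hc]; simp [Cfsg.sympTransvection])
    exact this ▸ one_mem _
  by_cases hw : w = 0
  · have : A = 1 := Subtype.ext (by rw [hA, hw]; simp [Cfsg.sympTransvection])
    exact this ▸ one_mem _
  obtain rfl : c = 1 := ((show ∀ a : ZMod 2, a = 0 ∨ a = 1 by decide) c).resolve_left hc
  obtain ⟨i, rfl⟩ := vI_surj w hw
  obtain ⟨g, rfl⟩ := orbit_all i
  obtain ⟨t, ht⟩ := transv_mem_range
  refine ⟨g * t * g⁻¹, ?_⟩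
  rw [map_mul, map_mul, map_inv, ht, transv_conj, phi_apply]
  exact Subtype.ext hA.symm

theorem sympForm_pair : sympForm 3 (ZMod 2) (Pi.single (Sum.inr 0) 1) (Pi.single (Sum.inl 0) 1) = 1 := by
  decide +kernel

theorem pCore_sp62 : Cfsg.pCore 2 (Matrix.symplecticGroup (Fin 3) (ZMod 2)) = ⊥ := by
  rw [Cfsg.pCore, sSup_eq_bot]
  rintro N ⟨hN, hp⟩
  have : N.Normal := hN
  rcases ClassicalSimple.symplectic_normal_eq_top_or_le_center (m := 3) (F := ZMod 2) (Or.inl le_rfl) N
    with h | h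
  · exfalso
    subst h
    have : Fact (Nat.Prime 2) := ⟨Nat.prime_two⟩
    have hp' : IsPGroup 2 (Matrix.symplecticGroup (Fin 3) (ZMod 2)) := hp.of_equiv Subgroup.topEquiv
    have := hp'.isNilpotent
    have hnt : Nontrivial (Matrix.symplecticGroup (Fin 3) (ZMod 2)) := ⟨transv (Pi.single (Sum.inl 0) 1), 1, fun e => by
      have h1 := congrArg (fun B : Matrix.symplecticGroup (Fin 3) (ZMod 2) => B.1 *ᵥ (Pi.single (Sum.inr 0) 1)) e
      simp only [transv_apply, Submonoid.coe_one, Matrix.one_mulVec] at h1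
      rw [sympForm_pair, one_smul, add_eq_left] at h1
      simpa using congrFun h1 (Sum.inl 0)⟩
    exact (Group.IsSolvable.commutator_lt_top_of_nontrivial (Matrix.symplecticGroup (Fin 3) (ZMod 2))).ne
      (ClassicalSimple.symplectic_commutator_eq_top (Or.inl le_rfl))
  · refine (Subgroup.eq_bot_iff_forall N).2 fun x hx => ?_
    obtain ⟨c, hc⟩ := GL.symp_center_scalar x (h hx)
    have hc1 : c = 1 := by
      have h1 := ClassicalSimple.mem_symplecticGroup_iff_form.1 x.2 (Pi.single (Sum.inl 0) 1)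
        (Pi.single (Sum.inr 0) 1)
      rw [hc] at h1
      simp only [Matrix.smul_mulVec, Matrix.one_mulVec, map_smul, LinearMap.smul_apply] at h1
      rcases (show ∀ a : ZMod 2, a = 0 ∨ a = 1 by decide) c with rfl | rfl
      · exfalso
        simp only [zero_smul, ClassicalSimple.sympBilin_apply] at h1
        revert h1
        decide +kernel
      · rfl
    exact Subtype.ext (by rw [hc, hc1, one_smul]; rfl)

end Cfsg.Agent.Leech.OctadCent
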