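/-
The kernel of the action on the octad roots: an extraspecial group of monomial elements of order 512.
-/
import Cfsg.Agent.Lib.Leech.OctadCent.Image
import Cfsg.Agent.Lib.Mathieu.Stab.OctadGroup
import Cfsg.Agent.Lib.PGroup.SymplecticType

set_option autoImplicit false
set_option maxRecDepth 20000

namespace Cfsg.Agent.Leech.OctadCent

open Cfsg Finset
open scoped Pointwise commutatorElement

/-- The octad as a set of points. -/
def oSet : Finset GolayPt := Mathieu.ptsOf oMask

theorem mem_oSet {p : GolayPt} : p ∈ oSet ↔ inO p = true := Mathieu.mem_ptsOf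

theorem oSet_octad : oSet ∈ octads := by
  have h := oMask_check
  simp only [Bool.and_eq_true, beq_iff_eq] at h
  exact Mathieu.ptsOf_mem_octads h.1.1.1 h.1.1.2

theorem eight_split : ∀ p : GolayPt,
    vecF [4, 4, 0, 0, 0, 0, 0, 0] p + vecF (rootL.getD 30 []) p = (if p = none then 8 else 0) ∧
      vecF [4, 4, 0, 0, 0, 0, 0, 0] p - vecF (rootL.getD 30 []) p = (if p = some 0 then 8 else 0) := by
  decide +kernel

theorem separate_check : ∀ a b : GolayPt, inO a = true → a ≠ none → a ≠ some 0 → b ≠ a →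
    ∃ i : Fin 63, vecF (rootL.getD i.val []) a ≠ 0 ∧ vecF (rootL.getD i.val []) b = 0 := by
  decide +kernel

theorem full_root : ∃ i : Fin 63, ∀ p, inO p = true → vecF (rootL.getD i.val []) p ≠ 0 := by
  decide +kernel

theorem vU_points : ∀ p : GolayPt,
    (vecF [4, 4, 0, 0, 0, 0, 0, 0] p ≠ 0 ↔ p = none ∨ p = some 0) ∧
      ((p = none ∨ p = some 0) → inO p = true) := by
  decide +kernel

theorem monoElt_apply (q : M24 × golayCode) (x : leechLattice) (k : GolayPt) :
    ((monoElt q • x : leechLattice) : GolayPt → ℤ) k =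
      if (q.2 : GolayPt → ZMod 2) k = 1 then -(x : GolayPt → ℤ) ((q.1 : Equiv.Perm GolayPt).symm k)
      else (x : GolayPt → ℤ) ((q.1 : Equiv.Perm GolayPt).symm k) := by
  rw [monoElt_smul]
  simp only [signedPerm, mem_supp]

theorem support_move {q : M24 × golayCode} {x : leechLattice}
    (h : monoElt q • x = x ∨ monoElt q • x = -x) {a : GolayPt} (ha : (x : GolayPt → ℤ) a ≠ 0) :
    (x : GolayPt → ℤ) ((q.1 : Equiv.Perm GolayPt) a) ≠ 0 := by
  intro h0
  have hk := monoElt_apply q x ((q.1 : Equiv.Perm GolayPt) a)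
  rw [Equiv.symm_apply_apply] at hk
  rcases h with h | h <;> rw [h] at hk <;> (try rw [AddSubgroup.coe_neg, Pi.neg_apply] at hk) <;>
    rw [h0] at hk <;> split_ifs at hk <;> omega

/-- Pairs describing the kernel. -/
def InKer (q : M24 × golayCode) : Prop :=
  (q.1 : Equiv.Perm GolayPt) ∈ Mathieu.octFix oSet ∧ ∀ p, inO p = true → (q.2 : GolayPt → ZMod 2) p = 0

theorem exists_of_ker {g : cGrp} (hg : g ∈ phi.ker) : ∃ q, InKer q ∧ monoElt q = (g : Co0) := by
  rw [mem_ker_phi] at hg
  obtain ⟨hv, -⟩ := mem_cGrp.1 g.2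
  have hr : ∀ i, (g : Co0) • rootV i = rootV i ∨ (g : Co0) • rootV i = -rootV i := fun i => by
    have := act_spec g i
    rwa [hg i] at this
  have hstd : FixesStd (g : Co0) := by
    have e0 : eight none = Spor.leechU + rootV ⟨30, by norm_num⟩ := Subtype.ext (funext fun p => by
      rw [eight_val, AddSubgroup.coe_add, Pi.add_apply, leechU_val, Pi.single_apply]
      exact ((eight_split p).1).symm)
    have e1 : eight (some 0) = Spor.leechU + -rootV ⟨30, by norm_num⟩ := Subtype.ext (funext fun p => by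
      rw [eight_val, AddSubgroup.coe_add, AddSubgroup.coe_neg, Pi.add_apply, Pi.neg_apply, leechU_val,
        Pi.single_apply, ← sub_eq_add_neg]
      exact ((eight_split p).2).symm)
    rw [fixesStd_iff]
    rcases hr ⟨30, by norm_num⟩ with h | h
    · rw [e0, co0_add, hv, h]
    · rw [show (g : Co0) • eight none = eight (some 0) by rw [e0, co0_add, hv, h, e1]]
      exact cls_stdCross (eight_mem_stdCross _)
  obtain ⟨q, hq⟩ := exists_monoElt_of_fixesStd hstd
  rw [← hq] at hv hr
  set σ : Equiv.Perm GolayPt := (q.1 : Equiv.Perm GolayPt) with hσ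
  have hpair : ∀ a, (a = none ∨ a = some 0) → σ a = none ∨ σ a = some 0 := fun a ha => by
    have h := support_move (x := Spor.leechU) (Or.inl hv) (a := a)
      (by rw [leechU_val]; exact (vU_points a).1.2 ha)
    rw [leechU_val] at h
    exact (vU_points _).1.1 h
  have hsix : ∀ a, inO a = true → a ≠ none → a ≠ some 0 → σ a = a := fun a ha h1 h2 => by
    by_contra hne
    obtain ⟨i, hi, hi'⟩ := separate_check a (σ a) ha h1 h2 hne
    exact support_move (hr i) (a := a) hi hi'
  have hmaps : ∀ a ∈ oSet, σ a ∈ oSet := fun a ha => by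
    rw [mem_oSet] at ha ⊢
    by_cases hp : a = none ∨ a = some 0
    · exact (vU_points _).2 (hpair a hp)
    · rw [hsix a ha (fun e => hp (Or.inl e)) (fun e => hp (Or.inr e))]
      exact ha
  have hσo : σ • oSet = oSet := by
    refine Finset.eq_of_subset_of_card_le ?_ (by rw [Finset.card_smul_finset])
    intro y hy
    obtain ⟨a, ha, rfl⟩ := Finset.mem_smul_finset.1 hy
    exact hmaps a ha
  have hnone : σ none = none := by
    by_contra hne
    have h0 : σ none = some 0 := (hpair none (Or.inl rfl)).resolve_left hne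
    have h0' : σ (some 0) = none := (hpair _ (Or.inr rfl)).resolve_right fun e =>
      Option.some_ne_none _ (σ.injective (e.trans h0.symm))
    have hout : Mathieu.idx Mathieu.ptEnc 4 ∉ oSet := by decide +kernel
    obtain ⟨τ, hτ, hcomp⟩ := Mathieu.exists_factor oSet_octad hout q.1.2 hσo
    have hn : (none : GolayPt) ∈ oSet := mem_oSet.2 ((vU_points _).2 (Or.inl rfl))
    have h0m : (some 0 : GolayPt) ∈ oSet := mem_oSet.2 ((vU_points _).2 (Or.inr rfl))
    have hswap : Mathieu.compToPerm oSet _ ⟨_, hcomp⟩ =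
        Equiv.swap (⟨none, hn⟩ : ↥oSet) ⟨some 0, h0m⟩ := by
      refine Equiv.ext fun x => Subtype.ext ?_
      show τ⁻¹ (σ x.1) = _
      have hfix : τ⁻¹ (σ x.1) = σ x.1 := (Mathieu.mem_octFix.1 (inv_mem hτ)).2 _ (hmaps _ x.2)
      rw [hfix]
      obtain ⟨x, hx⟩ := x
      rcases eq_or_ne x none with rfl | h1
      · rw [Equiv.swap_apply_left]; exact h0
      rcases eq_or_ne x (some 0) with rfl | h2
      · rw [Equiv.swap_apply_right]; exact h0'
      · rw [Equiv.swap_apply_of_ne_of_ne (fun e => h1 (congrArg Subtype.val e))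
          fun e => h2 (congrArg Subtype.val e)]
        exact hsix x (mem_oSet.1 hx) h1 h2
    have hmem : Mathieu.compToPerm oSet _ ⟨_, hcomp⟩ ∈ (Mathieu.compToPerm oSet _).range := ⟨_, rfl⟩
    rw [Mathieu.compToPerm_range oSet_octad hout, hswap, Equiv.Perm.mem_alternatingGroup,
      Equiv.Perm.sign_swap (fun e => Option.some_ne_none _ (congrArg Subtype.val e).symm)] at hmem
    exact absurd hmem (by decide)
  have hfix : ∀ a ∈ oSet, σ a = a := fun a ha => by
    rcases eq_or_ne a none with rfl | h1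
    · exact hnone
    rcases eq_or_ne a (some 0) with rfl | h2
    · exact (hpair _ (Or.inr rfl)).resolve_left fun e =>
        Option.some_ne_none _ (σ.injective (e.trans hnone.symm))
    · exact hsix a (mem_oSet.1 ha) h1 h2
  have hsymm : ∀ a, inO a = true → σ.symm a = a := fun a ha => by
    rw [Equiv.symm_apply_eq, hfix a (mem_oSet.2 ha)]
  refine ⟨q, ⟨Mathieu.mem_octFix.2 ⟨q.1.2, hfix⟩, fun p hp => ?_⟩, hq⟩
  have hc0 : (q.2 : GolayPt → ZMod 2) none = 0 := by
    have h := monoElt_apply q Spor.leechU none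
    rw [hv, hsymm _ ((vU_points _).2 (Or.inl rfl))] at h
    rcases zmod2_cases ((q.2 : GolayPt → ZMod 2) none) with e | e
    · exact e
    · rw [if_pos e] at h
      have := (vU_points none).1.2 (Or.inl rfl)
      rw [← leechU_val] at this
      omega
  obtain ⟨i, hi⟩ := full_root
  have hplus : monoElt q • rootV i = rootV i := by
    refine (hr i).resolve_right fun h => ?_
    have h' := monoElt_apply q (rootV i) none
    rw [h, hc0, if_neg (by decide), hsymm _ ((vU_points _).2 (Or.inl rfl)), AddSubgroup.coe_neg,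
      Pi.neg_apply] at h'
    have := hi none ((vU_points _).2 (Or.inl rfl))
    change (rootV i : GolayPt → ℤ) none ≠ 0 at this
    omega
  have h' := monoElt_apply q (rootV i) p
  rw [hplus, hsymm p hp] at h'
  rcases zmod2_cases ((q.2 : GolayPt → ZMod 2) p) with e | e
  · exact e
  · rw [if_pos e] at h'
    have := hi p hp
    change (rootV i : GolayPt → ℤ) p ≠ 0 at this
    omega

theorem InKer.inO_symm {q : M24 × golayCode} (hq : InKer q) (k : GolayPt) :
    inO ((q.1 : Equiv.Perm GolayPt).symm k) = inO k := by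
  obtain ⟨-, hfix⟩ := Mathieu.mem_octFix.1 hq.1
  rw [Bool.eq_iff_iff, ← mem_oSet, ← mem_oSet]
  constructor <;> intro h
  · have := hfix _ h
    rw [Equiv.apply_symm_apply] at this
    exact this.symm ▸ h
  · rwa [(Equiv.symm_apply_eq _).2 (hfix k h).symm]

theorem InKer.fix_supp {q : M24 × golayCode} (hq : InKer q) {x : leechLattice}
    (hx : Supp (x : GolayPt → ℤ)) : monoElt q • x = x := by
  refine Subtype.ext (funext fun k => ?_)
  rw [monoElt_apply]
  cases hk : inO k
  · rw [hx k hk, hx _ ((hq.inO_symm k).trans hk)]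
    simp
  · rw [if_neg (by rw [hq.2 k hk]; decide),
      (Equiv.symm_apply_eq _).2 ((Mathieu.mem_octFix.1 hq.1).2 k (mem_oSet.2 hk)).symm]

theorem InKer.mem {q : M24 × golayCode} (hq : InKer q) : monoElt q ∈ cGrp := by
  refine mem_cGrp.2 ⟨hq.fix_supp supp_leechU, eq_of_smul_eq_smul (α := leechLattice) fun x => ?_⟩
  refine Subtype.ext (funext fun k => ?_)
  rw [mul_smul, mul_smul, zElt_smul, monoElt_apply, monoElt_apply, zElt_smul, hq.inO_symm]
  cases inO k <;> split_ifs <;> simp_all

/-- The element of the kernel. -/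
def kerElt (q : {q : M24 × golayCode // InKer q}) : phi.ker :=
  ⟨⟨monoElt q.1, q.2.mem⟩, mem_ker_phi.2 fun i => act_eq (Or.inl (q.2.fix_supp (supp_rootV i)))⟩

theorem kerElt_bijective : Function.Bijective kerElt := by
  refine ⟨fun a b h => Subtype.ext (monoElt_injective (congrArg (fun g : phi.ker => ((g : cGrp) : Co0)) h)),
    fun g => ?_⟩
  obtain ⟨q, hq, he⟩ := exists_of_ker g.2
  exact ⟨⟨q, hq⟩, Subtype.ext (Subtype.ext he)⟩

theorem comp_mul (q r : M24 × golayCode) :
    monoElt q * monoElt r = monoElt (q.1 * r.1, ⟨(q.2 : GolayPt → ZMod 2) +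
      (r.2 : GolayPt → ZMod 2) ∘ (q.1 : Equiv.Perm GolayPt).symm,
      add_mem q.2.2 (comp_mem_code (inv_mem q.1.2) r.2.2)⟩) := by
  refine eq_of_smul_eq_smul (α := leechLattice) fun x => Subtype.ext (funext fun k => ?_)
  rw [mul_smul, monoElt_apply, monoElt_apply, monoElt_apply]
  simp only [Pi.add_apply, Function.comp_apply, Subgroup.coe_mul]
  rw [show ((q.1 : Equiv.Perm GolayPt) * (r.1 : Equiv.Perm GolayPt)).symm k =
    (r.1 : Equiv.Perm GolayPt).symm ((q.1 : Equiv.Perm GolayPt).symm k) from rfl]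
  rcases zmod2_cases ((q.2 : GolayPt → ZMod 2) k) with a | a <;>
    rcases zmod2_cases ((r.2 : GolayPt → ZMod 2) ((q.1 : Equiv.Perm GolayPt).symm k)) with b | b <;>
    rw [a, b] <;> simp [show ((1 : ZMod 2) + 1 = 0) by decide]

theorem exists_fixPerm {σ : Equiv.Perm GolayPt} (h : σ ∈ Mathieu.octFix oSet) :
    ∃ l ∈ fixPerms, Mathieu.Rep Mathieu.ptEnc σ l := by
  classical
  have hc := fixPerms_check
  simp only [Bool.and_eq_true, beq_iff_eq, List.all_eq_true] at hc
  obtain ⟨hlen, hall⟩ := hc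
  have hex : ∀ l : {l // l ∈ fixPerms.toFinset}, ∃ τ : Mathieu.octFix oSet,
      Mathieu.Rep Mathieu.ptEnc (τ : Equiv.Perm GolayPt) l.1 := fun l => by
    obtain ⟨⟨hp, hpr⟩, hfix⟩ := hall l.1 (List.mem_toFinset.1 l.2)
    obtain ⟨τ, hτ⟩ := Mathieu.exists_rep (e := Mathieu.ptEnc) hp
    refine ⟨⟨τ, Mathieu.mem_octFix.2 ⟨Mathieu.mem_M24_of_rep hτ hpr, fun x hx => ?_⟩⟩, hτ⟩
    exact Mathieu.ptEnc.injective (Fin.ext ((hτ x).trans (hfix _ (inO_iff.1 (mem_oSet.1 hx)))))
  choose f hf using hex
  have hinj : Function.Injective f := by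
    rintro ⟨a, ha⟩ ⟨b, hb⟩ e
    have hall2 : ∀ a ∈ fixPerms, ∀ b ∈ fixPerms, (∀ i : Fin 24, Mathieu.app a i.val = Mathieu.app b i.val) →
        a = b := by decide +kernel
    refine Subtype.ext (hall2 a (List.mem_toFinset.1 ha) b (List.mem_toFinset.1 hb) fun i => ?_)
    have h1 := hf ⟨a, ha⟩ (Mathieu.ptEnc.symm i)
    have h2 := hf ⟨b, hb⟩ (Mathieu.ptEnc.symm i)
    rw [← e, Equiv.apply_symm_apply] at h2
    rw [Equiv.apply_symm_apply] at h1
    exact h1.symm.trans h2
  have hbij := (Nat.bijective_iff_injective_and_card f).2 ⟨hinj, by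
    rw [Mathieu.card_octFix oSet_octad, Nat.card_eq_finsetCard, List.toFinset_card_of_nodup fixPerms_nodup, hlen]⟩
  obtain ⟨⟨l, hl⟩, e⟩ := hbij.2 ⟨σ, h⟩
  refine ⟨l, List.mem_toFinset.1 hl, ?_⟩
  have := hf ⟨l, hl⟩
  rwa [e] at this

theorem exists_offWord {c : GolayPt → ZMod 2} (hc : c ∈ golayCode)
    (h0 : ∀ p, inO p = true → c p = 0) : ∃ m ∈ offWords, c = Mathieu.wordOf m := by
  obtain ⟨m, hm, rfl⟩ := Mathieu.mem_golayCode_iff.1 hc
  refine ⟨m, ?_, rfl⟩
  have hmem := Mathieu.inCode_iff_mem.1 hm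
  rw [Mathieu.codeList, List.mem_map] at hmem
  obtain ⟨k, hk, rfl⟩ := hmem
  have h := List.all_eq_true.1 code_off_octad k hk
  simp only [Mathieu.force_eq, Bool.or_eq_true, Bool.not_eq_true', beq_eq_false_iff_ne, ne_eq,
    List.contains_iff_mem] at h
  refine h.resolve_left (not_not.2 (Nat.eq_of_testBit_eq fun n => ?_))
  rw [Nat.zero_testBit, Nat.testBit_and]
  by_cases hn : n < 24
  · cases ho : oMask.testBit n
    · simp
    · have := h0 (Mathieu.idx Mathieu.ptEnc n) ((inO_idx hn).trans ho)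
      simp [Mathieu.wordOf, Mathieu.hasPt, Mathieu.idx_val hn] at this
      simp [this]
  · rw [Nat.testBit_lt_two_pow (lt_of_lt_of_le (show oMask < 2 ^ 24 by decide +kernel)
      (Nat.pow_le_pow_right (by norm_num) (by omega))), Bool.and_false]

/-- The word of the complement of the octad. -/
def offOne : GolayPt → ZMod 2 := Mathieu.wordOf offMask

theorem offOne_spec : ∀ p, offOne p = if inO p then 0 else 1 := by decide +kernel

theorem offOne_mem : offOne ∈ golayCode := by
  have h := oMask_check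
  simp only [Bool.and_eq_true] at h
  exact Mathieu.wordOf_mem_of_inCode h.1.2

theorem wordOf_comp {σ : Equiv.Perm GolayPt} {l m : ℕ} (hσ : Mathieu.Rep Mathieu.ptEnc σ l)
    (p : GolayPt) : Mathieu.wordOf m (σ p) = if m.testBit (Mathieu.app l (Mathieu.ptEnc p).val) then 1 else 0 := by
  simp [Mathieu.wordOf, Mathieu.hasPt, hσ p]

theorem word_moved {σ : Equiv.Perm GolayPt} (hσ : σ ∈ Mathieu.octFix oSet) {c : GolayPt → ZMod 2}
    (hc : c ∈ golayCode) (h0 : ∀ p, inO p = true → c p = 0) :
    c + c ∘ σ = 0 ∨ c + c ∘ σ = offOne := by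
  obtain ⟨l, hl, hrep⟩ := exists_fixPerm hσ
  obtain ⟨m, hm, rfl⟩ := exists_offWord hc h0
  have h := List.all_eq_true.1 (List.all_eq_true.1 moved_check l hl) m hm
  simp only [Bool.or_eq_true, List.all_eq_true, List.mem_range, beq_iff_eq] at h
  rcases h with h | h
  · refine Or.inl (funext fun p => ?_)
    rw [Pi.add_apply, Function.comp_apply, wordOf_comp hrep, h _ (Fin.isLt _), Mathieu.wordOf,
      Mathieu.hasPt, Pi.zero_apply]
    cases m.testBit (Mathieu.ptEnc p).val <;> decide
  · refine Or.inr (funext fun p => ?_)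
    have h' := h _ (Fin.isLt (Mathieu.ptEnc p))
    rw [Pi.add_apply, Function.comp_apply, wordOf_comp hrep, offOne, Mathieu.wordOf, Mathieu.wordOf,
      Mathieu.hasPt, Mathieu.hasPt, ← h']
    cases m.testBit (Mathieu.ptEnc p).val <;> cases m.testBit (Mathieu.app l (Mathieu.ptEnc p).val) <;>
      simp <;> decide

theorem octFix_comm {σ τ : Equiv.Perm GolayPt} (hσ : σ ∈ Mathieu.octFix oSet)
    (hτ : τ ∈ Mathieu.octFix oSet) : σ * τ = τ * σ ∧ σ * σ = 1 := by
  obtain ⟨a, ha, ra⟩ := exists_fixPerm hσ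
  obtain ⟨b, hb, rb⟩ := exists_fixPerm hτ
  have h := List.all_eq_true.1 fixPerms_mul a ha
  simp only [Bool.and_eq_true, List.all_eq_true, List.mem_range, beq_iff_eq] at h
  constructor
  · refine Equiv.ext fun p => Mathieu.ptEnc.injective (Fin.ext ?_)
    rw [Equiv.Perm.mul_apply, Equiv.Perm.mul_apply, ra, rb, rb, ra]
    exact h.2 b hb _ (Fin.isLt _)
  · refine Equiv.ext fun p => Mathieu.ptEnc.injective (Fin.ext ?_)
    rw [Equiv.Perm.mul_apply, ra, ra, Equiv.Perm.one_apply]
    exact h.1 _ (Fin.isLt _)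

theorem octFix_symm {σ : Equiv.Perm GolayPt} (hσ : σ ∈ Mathieu.octFix oSet) : σ.symm = σ :=
  inv_eq_of_mul_eq_one_right (octFix_comm hσ hσ).2

theorem card_ker : Nat.card phi.ker = 512 := by
  classical
  rw [← Nat.card_congr (Equiv.ofBijective _ kerElt_bijective)]
  let e : {q : M24 × golayCode // InKer q} ≃
      Mathieu.octFix oSet × {m // m ∈ offWords.toFinset} :=
    (Equiv.ofBijective (fun x : Mathieu.octFix oSet × {m // m ∈ offWords.toFinset} =>
      (⟨(⟨x.1, (Mathieu.mem_octFix.1 x.1.2).1⟩, ⟨Mathieu.wordOf x.2.1, by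
          have h := offWords_check
          simp only [Bool.and_eq_true, List.all_eq_true] at h
          exact Mathieu.wordOf_mem_of_inCode (h.2 _ (List.mem_toFinset.1 x.2.2)).1⟩), x.1.2, fun p hp => by
          have h := offWords_check
          simp only [Bool.and_eq_true, List.all_eq_true, beq_iff_eq] at h
          have h' := congrArg (fun n => n.testBit (Mathieu.ptEnc p).val) (h.2 _ (List.mem_toFinset.1 x.2.2)).2
          simp only [Nat.testBit_and, Nat.zero_testBit] at h'
          rw [show oMask.testBit (Mathieu.ptEnc p).val = true from hp, Bool.and_true] at h'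
          show Mathieu.wordOf x.2.1 p = 0
          simp [Mathieu.wordOf, Mathieu.hasPt, h']⟩ : {q : M24 × golayCode // InKer q})) ⟨?_, ?_⟩).symm
  · rw [Nat.card_congr e, Nat.card_prod, Mathieu.card_octFix oSet_octad, Nat.card_eq_finsetCard,
      List.toFinset_card_of_nodup offWords_nodup]
    have h := offWords_check
    simp only [Bool.and_eq_true, beq_iff_eq] at h
    rw [h.1]
  · rintro ⟨a, ⟨m, hm⟩⟩ ⟨b, ⟨n, hn⟩⟩ h
    have h1 := congrArg (fun q : {q : M24 × golayCode // InKer q} => (q.1.1 : Equiv.Perm GolayPt)) h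
    have h2 := congrArg (fun q : {q : M24 × golayCode // InKer q} => (q.1.2 : GolayPt → ZMod 2)) h
    refine Prod.ext (Subtype.ext h1) (Subtype.ext ?_)
    have hcode := offWords_check
    simp only [Bool.and_eq_true, List.all_eq_true] at hcode
    refine Mathieu.mask_ext (Mathieu.inCode_spec (hcode.2 _ (List.mem_toFinset.1 hm)).1).1
      (Mathieu.inCode_spec (hcode.2 _ (List.mem_toFinset.1 hn)).1).1 fun p => ?_
    have : Mathieu.wordOf m p = Mathieu.wordOf n p := congrFun h2 p
    simp only [Mathieu.wordOf] at this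
    revert this
    cases Mathieu.hasPt m p <;> cases Mathieu.hasPt n p <;> simp
  · rintro ⟨⟨s, c⟩, hs, hc⟩
    obtain ⟨m, hm, e⟩ := exists_offWord c.2 hc
    exact ⟨(⟨s, hs⟩, ⟨m, List.mem_toFinset.2 hm⟩), Subtype.ext (Prod.ext rfl (Subtype.ext e.symm))⟩

/-- A sign change in the kernel. -/
def signPair (u : GolayPt → ZMod 2) (hu : u = 0 ∨ u = offOne) : {q : M24 × golayCode // InKer q} :=
  ⟨(1, ⟨u, hu.elim (fun e => e ▸ zero_mem _) fun e => e ▸ offOne_mem⟩), one_mem _, fun p hp =>
    hu.elim (fun e => by simp [e]) fun e => by simp [e, offOne_spec, hp]⟩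

theorem comp_offOne {σ : Equiv.Perm GolayPt} (hσ : σ ∈ Mathieu.octFix oSet) {u : GolayPt → ZMod 2}
    (hu : u = 0 ∨ u = offOne) : u ∘ σ = u := by
  rcases hu with rfl | rfl
  · rfl
  · funext p
    rw [Function.comp_apply, offOne_spec, offOne_spec]
    have h : σ p ∈ oSet ↔ p ∈ oSet :=
      Mathieu.apply_mem_iff_of_fixed (Mathieu.octFix_le_stab hσ) p
    rw [mem_oSet, mem_oSet] at h
    simp only [h]

theorem signPair_central (u : GolayPt → ZMod 2) (hu : u = 0 ∨ u = offOne) :
    kerElt (signPair u hu) ∈ Subgroup.center phi.ker := by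
  refine Subgroup.mem_center_iff.2 fun g => ?_
  obtain ⟨⟨⟨s, c⟩, hs, hc⟩, rfl⟩ := kerElt_bijective.2 g
  refine Subtype.ext (Subtype.ext ?_)
  show monoElt _ * monoElt _ = monoElt _ * monoElt _
  rw [comp_mul, comp_mul]
  refine congrArg monoElt (Prod.ext (by simp [signPair]) (Subtype.ext (funext fun p => ?_)))
  have := congrFun (comp_offOne (inv_mem hs) hu) p
  simp only [Function.comp_apply, Equiv.Perm.inv_def] at this
  simp [signPair, Pi.add_apply, this, add_comm, ← Equiv.Perm.inv_def]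

theorem ker_comm (a b : phi.ker) : ∃ u, ∃ hu : u = 0 ∨ u = offOne,
    a * b = kerElt (signPair u hu) * (b * a) := by
  obtain ⟨⟨⟨s, c⟩, hs, hc⟩, rfl⟩ := kerElt_bijective.2 a
  obtain ⟨⟨⟨t, d⟩, ht, hd⟩, rfl⟩ := kerElt_bijective.2 b
  refine ⟨((c : GolayPt → ZMod 2) + (c : GolayPt → ZMod 2) ∘ (t : Equiv.Perm GolayPt)) +
    ((d : GolayPt → ZMod 2) + (d : GolayPt → ZMod 2) ∘ (s : Equiv.Perm GolayPt)), ?_, Subtype.ext (Subtype.ext ?_)⟩
  · rcases word_moved ht c.2 hc with h1 | h1 <;> rcases word_moved hs d.2 hd with h2 | h2 <;>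
      rw [h1, h2] <;> simp [add_self_word]
  · show monoElt _ * monoElt _ = monoElt _ * (monoElt _ * monoElt _)
    rw [comp_mul, comp_mul, comp_mul]
    refine congrArg monoElt (Prod.ext ?_ (Subtype.ext (funext fun p => ?_)))
    · simp only [signPair, one_mul]
      exact Subtype.ext (octFix_comm hs ht).1
    · have es := DFunLike.congr_fun (octFix_symm hs) p
      have et := DFunLike.congr_fun (octFix_symm ht) p
      simp only [signPair, Pi.add_apply, Function.comp_apply, OneMemClass.coe_one,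
        Equiv.Perm.coe_one] at es et ⊢
      rw [show (Equiv.symm (1 : Equiv.Perm GolayPt)) p = p from rfl, es, et]
      linear_combination (-1 : ZMod 2) * CharTwo.add_self_eq_zero ((c : GolayPt → ZMod 2) ((t : Equiv.Perm GolayPt) p)) -
        CharTwo.add_self_eq_zero ((d : GolayPt → ZMod 2) p)

theorem ker_sq (a : phi.ker) : ∃ u, ∃ hu : u = 0 ∨ u = offOne, a ^ 2 = kerElt (signPair u hu) := by
  obtain ⟨⟨⟨s, c⟩, hs, hc⟩, rfl⟩ := kerElt_bijective.2 a
  refine ⟨_, word_moved hs c.2 hc, Subtype.ext (Subtype.ext ?_)⟩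
  rw [pow_two]
  show monoElt _ * monoElt _ = monoElt _
  rw [comp_mul]
  refine congrArg monoElt (Prod.ext (Subtype.ext (octFix_comm hs hs).2) (Subtype.ext (funext fun p => ?_)))
  simp [signPair, octFix_symm hs]

theorem center_ker (g : phi.ker) (hg : g ∈ Subgroup.center phi.ker) :
    g = kerElt (signPair 0 (Or.inl rfl)) ∨ g = kerElt (signPair offOne (Or.inr rfl)) := by
  obtain ⟨⟨⟨s, c⟩, hs, hc⟩, rfl⟩ := kerElt_bijective.2 g
  rw [Subgroup.mem_center_iff] at hg
  have key : ∀ r : {q : M24 × golayCode // InKer q}, ∀ p,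
      (r.1.2 : GolayPt → ZMod 2) p + (c : GolayPt → ZMod 2) ((r.1.1 : Equiv.Perm GolayPt).symm p) =
        (c : GolayPt → ZMod 2) p + (r.1.2 : GolayPt → ZMod 2) ((s : Equiv.Perm GolayPt).symm p) := by
    intro r p
    have h := congrArg (fun x : phi.ker => ((x : cGrp) : Co0)) (hg (kerElt r))
    change monoElt _ * monoElt _ = monoElt _ * monoElt _ at h
    rw [comp_mul, comp_mul] at h
    exact congrFun (congrArg Subtype.val (Prod.ext_iff.1 (monoElt_injective h)).2) p
  have hs1 : (s : Equiv.Perm GolayPt) = 1 := by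
    obtain ⟨l, hl, rl⟩ := exists_fixPerm hs
    have h := List.all_eq_true.1 faithful_check l hl
    simp only [Bool.or_eq_true, List.all_eq_true, List.any_eq_true, List.mem_range, beq_iff_eq,
      bne_iff_ne] at h
    rcases h with h | ⟨m, hm, n, hn, hne⟩
    · refine Equiv.ext fun p => Mathieu.ptEnc.injective (Fin.ext ?_)
      rw [rl, h _ (Fin.isLt _), Equiv.Perm.one_apply]
    · exfalso
      have hw := offWords_check
      simp only [Bool.and_eq_true, List.all_eq_true, beq_iff_eq] at hw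
      have hz : ∀ p, inO p = true → Mathieu.wordOf m p = 0 := fun p hp => by
        have h' := congrArg (fun k => k.testBit (Mathieu.ptEnc p).val) (hw.2 m hm).2
        simp only [Nat.testBit_and, Nat.zero_testBit] at h'
        rw [show oMask.testBit (Mathieu.ptEnc p).val = true from hp, Bool.and_true] at h'
        simp [Mathieu.wordOf, Mathieu.hasPt, h']
      have hk := key ⟨(1, ⟨_, Mathieu.wordOf_mem_of_inCode (hw.2 m hm).1⟩), one_mem _, hz⟩
        ((s : Equiv.Perm GolayPt) (Mathieu.idx Mathieu.ptEnc n))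
      rw [Equiv.symm_apply_apply] at hk
      change Mathieu.wordOf m _ + (c : GolayPt → ZMod 2) ((s : Equiv.Perm GolayPt) _) = _ at hk
      rw [add_comm] at hk
      have hk' := add_left_cancel hk
      change Mathieu.wordOf m _ = Mathieu.wordOf m _ at hk'
      rw [wordOf_comp rl, Mathieu.idx_val hn, Mathieu.wordOf, Mathieu.hasPt, Mathieu.idx_val hn] at hk'
      revert hk' hne
      cases m.testBit (Mathieu.app l n) <;> cases m.testBit n <;> simp
  obtain ⟨m, hm, hcm⟩ := exists_offWord c.2 hc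
  have h := List.all_eq_true.1 fixed_word_check m hm
  simp only [Bool.or_eq_true, List.any_eq_true, List.mem_range, beq_iff_eq, bne_iff_ne] at h
  rcases h with (rfl | rfl) | ⟨l, hl, n, hn, hne⟩
  · refine Or.inl (congrArg kerElt (Subtype.ext (Prod.ext (Subtype.ext hs1) (Subtype.ext ?_))))
    refine hcm.trans (funext fun p => ?_)
    simp [signPair, Mathieu.wordOf, Mathieu.hasPt]
  · exact Or.inr (congrArg kerElt (Subtype.ext (Prod.ext (Subtype.ext hs1) (Subtype.ext hcm))))
  · exfalso
    have hf := fixPerms_check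
    simp only [Bool.and_eq_true, List.all_eq_true, beq_iff_eq] at hf
    obtain ⟨τ, rτ⟩ := Mathieu.exists_rep (e := Mathieu.ptEnc) (hf.2 l hl).1.1
    have hτ : τ ∈ Mathieu.octFix oSet := Mathieu.mem_octFix.2
      ⟨Mathieu.mem_M24_of_rep rτ (hf.2 l hl).1.2, fun x hx => Mathieu.ptEnc.injective (Fin.ext
        ((rτ x).trans ((hf.2 l hl).2 _ (inO_iff.1 (mem_oSet.1 hx)))))⟩
    have hk := key ⟨(⟨τ, (Mathieu.mem_octFix.1 hτ).1⟩, 0), hτ, fun p _ => rfl⟩
      (τ (Mathieu.idx Mathieu.ptEnc n))
    simp only [ZeroMemClass.coe_zero, Pi.zero_apply, zero_add, add_zero, Equiv.symm_apply_apply, hcm] at hk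
    rw [wordOf_comp rτ, Mathieu.idx_val hn, Mathieu.wordOf, Mathieu.hasPt, Mathieu.idx_val hn] at hk
    revert hk hne
    cases m.testBit (Mathieu.app l n) <;> cases m.testBit n <;> simp

theorem offOne_ne : (0 : ZMod 2) ≠ offOne (Mathieu.idx Mathieu.ptEnc 4) := by decide +kernel

theorem ker_facts : Nat.card (Subgroup.center phi.ker) = 2 ∧
    (∀ a b : phi.ker, ⁅a, b⁆ ∈ Subgroup.center phi.ker) ∧ ∀ a : phi.ker, a ^ 2 ∈ Subgroup.center phi.ker := by
  have hcard := card_ker
  have : Finite phi.ker := Nat.finite_of_card_ne_zero (by rw [hcard]; norm_num)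
  have hset : (Subgroup.center phi.ker : Set phi.ker) =
      {kerElt (signPair 0 (Or.inl rfl)), kerElt (signPair offOne (Or.inr rfl))} := by
    ext g
    refine ⟨center_ker g, ?_⟩
    rintro (rfl | rfl) <;> exact signPair_central _ _
  have hZ : Nat.card (Subgroup.center phi.ker) = 2 := by
    rw [← SetLike.coe_sort_coe, Nat.card_coe_set_eq, hset, Set.ncard_pair]
    intro h
    have := congrFun (congrArg (fun q : {q : M24 × golayCode // InKer q} => (q.1.2 : GolayPt → ZMod 2))
      (kerElt_bijective.1 h)) (Mathieu.idx Mathieu.ptEnc 4)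
    exact offOne_ne this
  refine ⟨hZ, ?_, ?_⟩
  · intro a b
    obtain ⟨u, hu, e⟩ := ker_comm a b
    rw [commutatorElement_def, e, show kerElt (signPair u hu) * (b * a) * a⁻¹ * b⁻¹ =
      kerElt (signPair u hu) by group]
    exact signPair_central u hu
  · intro a
    obtain ⟨u, hu, e⟩ := ker_sq a
    rw [e]
    exact signPair_central u hu

theorem extraspecial_of_equiv {G : Type*} [Group G] (f : G ≃* phi.ker) : Cfsg.IsExtraspecial 2 G := by
  have : Fact (Nat.Prime 2) := ⟨Nat.prime_two⟩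
  obtain ⟨hZ, hc, hp⟩ := ker_facts
  have hcard : Nat.card G = 512 := (Nat.card_congr f.toEquiv).trans card_ker
  have : Finite G := Nat.finite_of_card_ne_zero (by rw [hcard]; norm_num)
  have hmem : ∀ x : G, f x ∈ Subgroup.center phi.ker → x ∈ Subgroup.center G := fun x hx =>
    Subgroup.mem_center_iff.2 fun y => f.injective (by
      rw [map_mul, map_mul]; exact Subgroup.mem_center_iff.1 hx (f y))
  have hZ' : Nat.card (Subgroup.center G) = 2 :=
    (Nat.card_congr (Subgroup.centerCongr f).toEquiv).trans hZ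
  refine PGroup.isExtraspecial_of (IsPGroup.of_card (n := 9) hcard) hZ' ?_ ?_ ?_
  · intro h
    rw [h, Subgroup.card_top, hcard] at hZ'
    norm_num at hZ'
  · intro a b
    exact hmem _ (by rw [map_commutatorElement]; exact hc _ _)
  · intro a
    exact hmem _ (by rw [map_pow]; exact hp _)

theorem pCore_of_surjective {G : Type*} [Group G] (ψ : G →* Matrix.symplecticGroup (Fin 3) (ZMod 2))
    (hψ : Function.Surjective ψ) (hker : IsPGroup 2 ψ.ker) : Cfsg.pCore 2 G = ψ.ker := by
  refine le_antisymm (sSup_le fun N hN => ?_) (le_sSup ⟨inferInstance, hker⟩)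
  have hle : N.map ψ ≤ Cfsg.pCore 2 _ := le_sSup ⟨hN.1.map ψ hψ, hN.2.map ψ⟩
  rw [pCore_sp62, le_bot_iff] at hle
  exact (Subgroup.map_eq_bot_iff N).1 hle

end Cfsg.Agent.Leech.OctadCent
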