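/-
The centraliser of an octad sign change acts on the 120 pairs of minimal vectors of the octad,
preserving a hyperbolic quadratic form modulo two.
-/
import Cfsg.Agent.Lib.Leech.OctadCent.Kernel
import Cfsg.Agent.Lib.Leech.OctadCent.CheckFull
import Cfsg.Agent.Lib.Forms.Quad
import Cfsg.Prelude.Def_Classical

set_option autoImplicit false
set_option maxRecDepth 20000

namespace Cfsg.Agent.Leech.OctadCent

open Cfsg Finset
open scoped Matrix

/-- The centraliser of the sign change. -/
def dGrp : Subgroup Co0 := Subgroup.centralizer {zElt}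

theorem mem_dGrp {g : Co0} : g ∈ dGrp ↔ g * zElt = zElt * g := by
  simp [dGrp, Subgroup.mem_centralizer_singleton_iff, eq_comm]

theorem cGrp_le : cGrp ≤ dGrp := inf_le_right

theorem root8_mem {i : ℕ} (hi : i < 120) : rootL8.getD i [] ∈ rootL8 := by
  have h := root8_len
  simp only [Bool.and_eq_true, beq_iff_eq] at h
  rw [List.getD_eq_getElem _ _ (show i < rootL8.length by omega)]
  exact List.getElem_mem _

theorem root8_props {i : ℕ} (hi : i < 120) : (inLB (vecF (rootL8.getD i [])) = true ∧
    valsOf (vecF (rootL8.getD i [])) = rootL8.getD i []) ∧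
    dotL (rootL8.getD i []) (rootL8.getD i []) = 32 := by
  have h := List.all_eq_true.1 root8_facts _ (root8_mem hi)
  simpa [Bool.and_eq_true, beq_iff_eq] using h

theorem root8_length {i : ℕ} (hi : i < 120) : (rootL8.getD i []).length = 8 := by
  have h := root8_len
  simp only [Bool.and_eq_true, beq_iff_eq, List.all_eq_true (l := rootL8)] at h
  exact h.1.1.2 _ (root8_mem hi)

/-- A root. -/
def rootW (i : Fin 120) : leechLattice :=
  ⟨vecF (rootL8.getD i.val []), mem_leechLattice.2 (inL_of_inLB (root8_props i.isLt).1.1)⟩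

theorem supp_rootW (i : Fin 120) : Supp (rootW i : GolayPt → ℤ) :=
  supp_vecF (root8_length i.isLt).le

theorem valsOf_rootW (i : Fin 120) : valsOf (rootW i : GolayPt → ℤ) = rootL8.getD i.val [] :=
  (root8_props i.isLt).1.2

theorem rootW_inj {i j : Fin 120} (h : rootW i = rootW j ∨ rootW i = -rootW j) : i = j := by
  have hnd := List.nodup_append.1 root8_nodup
  rcases h with h | h
  · have e := congrArg (fun v : leechLattice => valsOf (v : GolayPt → ℤ)) h
    simp only [valsOf_rootW] at e
    have hl := root8_len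
    simp only [Bool.and_eq_true, beq_iff_eq] at hl
    have hi : i.val < rootL8.length := by omega
    have hj : j.val < rootL8.length := by omega
    rw [List.getD_eq_getElem _ _ hi, List.getD_eq_getElem _ _ hj] at e
    exact Fin.ext ((hnd.1.getElem_inj_iff).1 e)
  · have e := congrArg (fun v : leechLattice => valsOf (v : GolayPt → ℤ)) h
    simp only [AddSubgroup.coe_neg, valsOf_neg, valsOf_rootW] at e
    exact absurd rfl (hnd.2.2 _ (root8_mem i.isLt) _ (List.mem_map.2 ⟨_, root8_mem j.isLt, e.symm⟩))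

/-- The fixed root. -/
def vIdx : Fin 120 := ⟨63, by norm_num⟩

theorem rootW_v : rootW vIdx = Spor.leechU := by
  refine Subtype.ext ?_
  have h := root8_len
  simp only [Bool.and_eq_true, beq_iff_eq] at h
  show vecF (rootL8.getD 63 []) = _
  rw [h.1.2, leechU_val]

/-- A small root as a root. -/
def up (i : Fin 63) : Fin 120 := ⟨i.val, by omega⟩

theorem rootW_up (i : Fin 63) : rootW (up i) = rootV i := by
  refine Subtype.ext ?_
  have h := root8_len
  simp only [Bool.and_eq_true, beq_iff_eq, List.all_eq_true, List.mem_range] at h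
  show vecF (rootL8.getD i.val []) = vecF (rootL.getD i.val [])
  rw [h.2 i.val i.isLt]

theorem root8_cases {x : leechLattice} (hn : sqNorm (x : GolayPt → ℤ) = 32)
    (hs : Supp (x : GolayPt → ℤ)) : ∃ i, x = rootW i ∨ x = -rootW i := by
  have hx := mem_leechLattice.1 x.2
  set f : GolayPt → ℤ := (x : GolayPt → ℤ) with hf
  have hval : dotL (valsOf f) (valsOf f) = 32 := by rw [← sqNorm_supp hs, hn]
  have hq : inO (Mathieu.idx Mathieu.ptEnc 4) = false := by decide +kernel
  have heven : ∀ p, f p % 2 = 0 := fun p => by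
    have h1 := hx.1 p
    have h2 := hx.1 (Mathieu.idx Mathieu.ptEnc 4)
    rw [hs _ hq] at h2
    omega
  obtain ⟨m, hm, hmw⟩ := Mathieu.mem_golayCode_iff.1 hx.2.1
  have hbit : ∀ p, (f p / 2 % 2 = 1 ↔ Mathieu.hasPt m p = true) := fun p => by
    rw [← hb_eq_one_iff, ← hmw, Mathieu.wordOf]
    cases Mathieu.hasPt m p <;> simp
  have hmO : m = 0 ∨ m = oMask := by
    have hmem := Mathieu.inCode_iff_mem.1 hm
    rw [Mathieu.codeList, List.mem_map] at hmem
    obtain ⟨c, hc, rfl⟩ := hmem
    have h := List.all_eq_true.1 code_in_octad c hc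
    simp only [Mathieu.force_eq, Bool.or_eq_true, Bool.not_eq_true', beq_eq_false_iff_ne, ne_eq,
      beq_iff_eq] at h
    rcases h with (h | h) | h
    · refine absurd (Nat.eq_of_testBit_eq fun n => ?_) h
      rw [Nat.zero_testBit, Nat.testBit_and]
      by_cases hn : n < 24
      · by_contra hne
        simp only [Bool.not_eq_false, Bool.and_eq_true] at hne
        have ho := List.all_eq_true.1 (by
          have h' := oMask_check
          simp only [Bool.and_eq_true] at h'
          exact h'.2) n (List.mem_range.2 hn)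
        rw [hne.2, beq_iff_eq] at ho
        have hz := hs (Mathieu.idx Mathieu.ptEnc n) (by rw [inO_idx hn]; simpa using ho.symm)
        have := (hbit (Mathieu.idx Mathieu.ptEnc n)).2 (by
          rw [Mathieu.hasPt, Mathieu.idx_val hn]; exact hne.1)
        rw [hz] at this
        norm_num at this
      · rw [Nat.testBit_lt_two_pow (lt_of_lt_of_le (show offMask < 2 ^ 24 by decide +kernel)
          (Nat.pow_le_pow_right (by norm_num) (by omega))), Bool.and_false]
    · exact Or.inl h
    · exact Or.inr h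
  have hb : ∀ p, -5 ≤ f p ∧ f p ≤ 5 := fun p => by
    have : f p ^ 2 ≤ 32 := hn ▸ Finset.single_le_sum (f := fun j => f j ^ 2) (fun _ _ => sq_nonneg _)
      (mem_univ p)
    constructor <;> nlinarith
  have hroot : isRoot8 (valsOf f) = true := by
    rcases hmO with rfl | rfl
    · have hmem := mem_choices [-4, 0, 4] 8 (valsOf f) (by simp [valsOf, oPts]) fun y hy => by
        obtain ⟨n, -, rfl⟩ := List.mem_map.1 hy
        obtain ⟨b1, b2⟩ := hb (Mathieu.idx Mathieu.ptEnc n)
        have h2 := heven (Mathieu.idx Mathieu.ptEnc n)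
        have h4 : ¬ f (Mathieu.idx Mathieu.ptEnc n) / 2 % 2 = 1 := by
          rw [hbit]; simp [Mathieu.hasPt]
        simp only [List.mem_cons, List.not_mem_nil, or_false]
        omega
      have h := List.all_eq_true.1 class8_four _ hmem
      rw [hval] at h
      simpa using h
    · have hmem := mem_choices [-2, 2] 8 (valsOf f) (by simp [valsOf, oPts]) fun y hy => by
        obtain ⟨n, hn', rfl⟩ := List.mem_map.1 hy
        obtain ⟨b1, b2⟩ := hb (Mathieu.idx Mathieu.ptEnc n)
        have h2 := heven (Mathieu.idx Mathieu.ptEnc n)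
        have h4 : f (Mathieu.idx Mathieu.ptEnc n) / 2 % 2 = 1 := by
          rw [hbit, Mathieu.hasPt, Mathieu.idx_val (oPts_check.2 n hn'),
            oPts_check.1.2 n (oPts_check.2 n hn')]
          exact hn'
        simp only [List.mem_cons, List.not_mem_nil, or_false]
        omega
      have h := List.all_eq_true.1 class8_two _ hmem
      have hsum : (valsOf f).sum % 8 = 0 := by
        have e : ∑ p, f p = (valsOf f).sum := sum_supp f hs
        have h3 := hx.2.2
        have h0 := heven none
        rw [← e]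
        omega
      rw [hsum] at h
      simpa using h
  simp only [isRoot8, List.any_eq_true, Bool.or_eq_true, beq_iff_eq] at hroot
  obtain ⟨r, hr, hcase⟩ := hroot
  obtain ⟨i, hi, rfl⟩ := List.mem_iff_getElem.1 hr
  have hi' : i < 120 := by
    have h := root8_len
    simp only [Bool.and_eq_true, beq_iff_eq] at h
    omega
  have hget : rootL8.getD i [] = rootL8[i] := List.getD_eq_getElem _ _ hi
  refine ⟨⟨i, hi'⟩, hcase.imp (fun e => ?_) fun e => ?_⟩
  · refine Subtype.ext ?_
    show f = vecF (rootL8.getD i [])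
    exact (eq_vecF hs).trans (congrArg vecF (e.symm.trans hget.symm))
  · refine Subtype.ext ?_
    rw [AddSubgroup.coe_neg]
    show f = -vecF (rootL8.getD i [])
    rw [← vecF_neg]
    exact (eq_vecF hs).trans (congrArg vecF (e.symm.trans (congrArg (List.map fun y => -y) hget.symm)))

theorem exists_act8 (g : dGrp) (i : Fin 120) :
    ∃ j, (g : Co0) • rootW i = rootW j ∨ (g : Co0) • rootW i = -rootW j := by
  refine root8_cases ?_ (zElt_fix_iff.1 ?_)
  · rw [co0_norm, sqNorm_supp (supp_rootW i), valsOf_rootW]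
    exact (root8_props i.isLt).2
  · rw [← mul_smul, ← mem_dGrp.1 g.2, mul_smul, zElt_fix_iff.2 (supp_rootW i)]

/-- The action on all roots up to sign. -/
noncomputable def act8 (g : dGrp) (i : Fin 120) : Fin 120 := (exists_act8 g i).choose

theorem act8_spec (g : dGrp) (i : Fin 120) :
    (g : Co0) • rootW i = rootW (act8 g i) ∨ (g : Co0) • rootW i = -rootW (act8 g i) :=
  (exists_act8 g i).choose_spec

theorem act8_eq {g : dGrp} {i j : Fin 120}
    (h : (g : Co0) • rootW i = rootW j ∨ (g : Co0) • rootW i = -rootW j) : act8 g i = j := by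
  refine rootW_inj ?_
  rcases act8_spec g i with h' | h' <;> rcases h with h | h <;> rw [h] at h'
  · exact Or.inl h'.symm
  · exact Or.inr h'.symm
  · exact Or.inr (by rw [h', neg_neg])
  · exact Or.inl (neg_injective h').symm

theorem act8_mul (g h : dGrp) (i : Fin 120) : act8 (g * h) i = act8 g (act8 h i) := by
  refine act8_eq ?_
  rw [Subgroup.coe_mul, mul_smul]
  rcases act8_spec h i with e | e <;> rw [e]
  · exact act8_spec g _
  · rw [co0_neg]
    rcases act8_spec g (act8 h i) with e' | e' <;> rw [e']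
    · exact Or.inr rfl
    · exact Or.inl (neg_neg _)

theorem act8_one (i : Fin 120) : act8 (1 : dGrp) i = i :=
  act8_eq (Or.inl (one_smul Co0 _))

/-- Vectors of the orthogonal space. -/
abbrev OV : Type := Fin 4 ⊕ Fin 4 → ZMod 2

/-- The eight-bit code as a vector. -/
def vec8 (c : ℕ) : OV :=
  Sum.elim (fun k => if c.testBit k.val then 1 else 0) fun k => if c.testBit (4 + k.val) then 1 else 0

/-- The code of a vector. -/
def code8 (w : OV) : ℕ :=
  ∑ k : Fin 4, ((if w (.inl k) = 1 then 2 ^ k.val else 0) + if w (.inr k) = 1 then 2 ^ (4 + k.val) else 0)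

theorem code8_spec : ∀ w : OV, code8 w < 256 ∧ vec8 (code8 w) = w := by decide +kernel

theorem vec8_inj : ∀ a : Fin 256, code8 (vec8 a.val) = a.val := by decide +kernel

theorem vec8_xor : ∀ a b : ℕ, vec8 (a ^^^ b) = vec8 a + vec8 b := by
  intro a b
  funext l
  rcases l with k | k <;> simp only [vec8, Sum.elim_inl, Sum.elim_inr, Pi.add_apply, Nat.testBit_xor] <;>
    generalize Nat.testBit a _ = x <;> generalize Nat.testBit b _ = y <;> cases x <;> cases y <;> simp <;> decide

/-- The polar form of `quadFormPlus 4` over two elements. -/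
def pol (u v : OV) : ZMod 2 :=
  ∑ k : Fin 4, (u (.inl k) * v (.inr k) + u (.inr k) * v (.inl k))

theorem pol_add_left (u u' v : OV) : pol (u + u') v = pol u v + pol u' v := by
  simp only [pol, Pi.add_apply, ← sum_add_distrib]
  exact sum_congr rfl fun k _ => by ring

theorem pol_comm (u v : OV) : pol u v = pol v u :=
  sum_congr rfl fun k _ => by ring

theorem pol_add_right (u v v' : OV) : pol u (v + v') = pol u v + pol u v' := by
  rw [pol_comm, pol_add_left, pol_comm, pol_comm v']

theorem pol_zero_left (v : OV) : pol 0 v = 0 := by simp [pol]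

theorem quad_add (u v : OV) : quadFormPlus 4 (ZMod 2) (u + v) =
    quadFormPlus 4 (ZMod 2) u + quadFormPlus 4 (ZMod 2) v + pol u v := by
  simp only [quadFormPlus, pol, Pi.add_apply, ← sum_add_distrib]
  exact sum_congr rfl fun k _ => by ring

theorem eq_of_pol {y y' : OV} (h : ∀ l, pol y (Pi.single l 1) = pol y' (Pi.single l 1)) : y = y' := by
  funext l
  rcases l with k | k
  · simpa [pol, Fin.sum_univ_four, Pi.single_apply] using h (.inr k)
  · simpa [pol, Fin.sum_univ_four, Pi.single_apply] using h (.inl k)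

theorem bit_and (x y : Bool) :
    (if x then (1 : ZMod 2) else 0) * (if y then 1 else 0) = if (x && y) then 1 else 0 := by
  cases x <;> cases y <;> simp

theorem bit_add (x y : Bool) :
    (if x then (1 : ZMod 2) else 0) + (if y then 1 else 0) = if xor x y then 1 else 0 := by
  cases x <;> cases y <;> simp <;> decide

theorem pol_vec8 (a b : ℕ) : pol (vec8 a) (vec8 b) = if formB8 a b then 1 else 0 := by
  simp only [pol, Fin.sum_univ_four, vec8, Sum.elim_inl, Sum.elim_inr, bit_and, bit_add, formB8]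
  rfl

theorem quad_vec8 (a : ℕ) : quadFormPlus 4 (ZMod 2) (vec8 a) = if quadB8 a then 1 else 0 := by
  simp only [quadFormPlus, Fin.sum_univ_four, vec8, Sum.elim_inl, Sum.elim_inr, bit_and, bit_add, quadB8]
  rfl

theorem cd8_mem (i : Fin 120) : cd8 i.val ∈ coordL8 ∧ cd8 i.val < 256 := by
  have h := root8_len
  simp only [Bool.and_eq_true, beq_iff_eq] at h
  have hm : cd8 i.val ∈ coordL8 := by
    rw [cd8, List.getD_eq_getElem _ _ (show i.val < coordL8.length by omega)]
    exact List.getElem_mem _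
  exact ⟨hm, coord8_facts.2.1 _ hm⟩

/-- The vector of a root. -/
def vI8 (i : Fin 120) : OV := vec8 (cd8 i.val)

theorem cd8_inj {i j : Fin 120} (h : cd8 i.val = cd8 j.val) : i = j := by
  have hl := root8_len
  simp only [Bool.and_eq_true, beq_iff_eq] at hl
  have hi : i.val < coordL8.length := by omega
  have hj : j.val < coordL8.length := by omega
  simp only [cd8, List.getD_eq_getElem _ _ hi, List.getD_eq_getElem _ _ hj] at h
  exact Fin.ext ((coord8_facts.1.getElem_inj_iff).1 h)

theorem vI8_injective : Function.Injective vI8 := fun i j h => cd8_inj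
  ((vec8_inj ⟨_, (cd8_mem i).2⟩).symm.trans ((congrArg code8 h).trans (vec8_inj ⟨_, (cd8_mem j).2⟩)))

theorem quad_vI8 (i : Fin 120) : quadFormPlus 4 (ZMod 2) (vI8 i) = 1 := by
  have h := List.all_eq_true.1 coord8_facts.2.2 _ (List.mem_range.2 (cd8_mem i).2)
  rw [beq_iff_eq, List.contains_iff_mem.2 (cd8_mem i).1] at h
  rw [vI8, quad_vec8, h]
  rfl

theorem exists_root8 {w : OV} (hw : quadFormPlus 4 (ZMod 2) w = 1) : ∃ i, vI8 i = w := by
  obtain ⟨hlt, he⟩ := code8_spec w
  have h := List.all_eq_true.1 coord8_facts.2.2 _ (List.mem_range.2 hlt)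
  rw [← he, quad_vec8] at hw
  have hq : quadB8 (code8 w) = true := by
    cases hb : quadB8 (code8 w)
    · rw [hb] at hw; simp at hw
    · rfl
  rw [hq, beq_iff_eq] at h
  obtain ⟨i, hi, e⟩ := List.mem_iff_getElem.1 (List.contains_iff_mem.1 h.symm)
  have hl := root8_len
  simp only [Bool.and_eq_true, beq_iff_eq] at hl
  refine ⟨⟨i, by omega⟩, ?_⟩
  rw [vI8, cd8, List.getD_eq_getElem _ _ hi, e, he]

theorem pol_vI8 (i j : Fin 120) : pol (vI8 i) (vI8 j) =
    if dotInt (rootW i : GolayPt → ℤ) (rootW j : GolayPt → ℤ) % 32 = 16 then 1 else 0 := by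
  have h := List.all_eq_true.1 (List.all_eq_true.1 root8_form i.val (List.mem_range.2 i.isLt)) j.val
    (List.mem_range.2 j.isLt)
  rw [beq_iff_eq] at h
  rw [vI8, vI8, pol_vec8, dotInt_supp (supp_rootW i), valsOf_rootW, valsOf_rootW, h]
  cases formB8 (cd8 i.val) (cd8 j.val) <;> simp

theorem pol_act (g : dGrp) (i j : Fin 120) :
    pol (vI8 (act8 g i)) (vI8 (act8 g j)) = pol (vI8 i) (vI8 j) := by
  rw [pol_vI8, pol_vI8]
  have h := co0_dot (g : Co0) (rootW i) (rootW j)
  have hneg : ∀ x y : GolayPt → ℤ, dotInt (-x) y = -dotInt x y ∧ dotInt x (-y) = -dotInt x y :=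
    fun x y => ⟨by simp [dotInt], by simp [dotInt]⟩
  refine if_congr ?_ rfl rfl
  rcases act8_spec g i with e | e <;> rcases act8_spec g j with e' | e' <;> rw [e, e'] at h <;>
    first
      | omega
      | (simp only [AddSubgroup.coe_neg, (hneg _ _).1, (hneg _ _).2, neg_neg] at h; omega)

/-- Number of a basis vector. -/
def basNum8 : Fin 4 ⊕ Fin 4 → ℕ := Sum.elim (fun k => k.val) fun k => 4 + k.val

theorem basNum8_lt : ∀ l : Fin 4 ⊕ Fin 4, basNum8 l < 8 := by decide

theorem vec8_basis : ∀ l : Fin 4 ⊕ Fin 4, vec8 (2 ^ basNum8 l) = Pi.single l 1 := by decide +kernel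

theorem bas8_exists (l : Fin 4 ⊕ Fin 4) : ∃ a b : Fin 120,
    vI8 a + vI8 b = Pi.single l 1 ∧ pol (vI8 a) (vI8 b) = 0 := by
  have h := List.all_eq_true.1 basis8_check _ (List.mem_range.2 (basNum8_lt l))
  rcases hab : basL8.getD (basNum8 l) (0, 0) with ⟨a, b⟩
  rw [hab] at h
  simp only [Bool.and_eq_true, Nat.blt_eq, beq_iff_eq, Bool.not_eq_true'] at h
  obtain ⟨⟨⟨ha, hb⟩, hx⟩, hf⟩ := h
  refine ⟨⟨a, ha⟩, ⟨b, hb⟩, ?_, ?_⟩
  · rw [vI8, vI8, ← vec8_xor, hx, vec8_basis]
  · rw [vI8, vI8, pol_vec8, hf]; rfl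

/-- The first root of a basis vector. -/
noncomputable def basA (l : Fin 4 ⊕ Fin 4) : Fin 120 := (bas8_exists l).choose

/-- The second root of a basis vector. -/
noncomputable def basB (l : Fin 4 ⊕ Fin 4) : Fin 120 := (bas8_exists l).choose_spec.choose

theorem bas8_spec (l : Fin 4 ⊕ Fin 4) : vI8 (basA l) + vI8 (basB l) = Pi.single l 1 :=
  (bas8_exists l).choose_spec.choose_spec.1

/-- The matrix of the action. -/
noncomputable def mat8 (g : dGrp) : Matrix (Fin 4 ⊕ Fin 4) (Fin 4 ⊕ Fin 4) (ZMod 2) :=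
  fun r l => (vI8 (act8 g (basA l)) + vI8 (act8 g (basB l))) r

theorem mat8_basis (g : dGrp) (l : Fin 4 ⊕ Fin 4) :
    mat8 g *ᵥ Pi.single l 1 = vI8 (act8 g (basA l)) + vI8 (act8 g (basB l)) := by
  rw [Matrix.mulVec_single_one]
  rfl

theorem pol_mat8_basis (g : dGrp) (k l : Fin 4 ⊕ Fin 4) :
    pol (mat8 g *ᵥ Pi.single k 1) (mat8 g *ᵥ Pi.single l 1) = pol (Pi.single k 1) (Pi.single l 1) := by
  rw [mat8_basis, mat8_basis, ← bas8_spec k, ← bas8_spec l]
  simp only [pol_add_left, pol_add_right, pol_act]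

/-- The polar form as a bilinear map. -/
def polB : OV →ₗ[ZMod 2] OV →ₗ[ZMod 2] ZMod 2 :=
  LinearMap.mk₂ (ZMod 2) pol pol_add_left
    (fun c u v => by rcases zmod2_cases c with rfl | rfl <;> simp [pol_zero_left])
    pol_add_right
    (fun c u v => by rcases zmod2_cases c with rfl | rfl <;> simp [pol_comm u (0 : OV), pol_zero_left])

theorem polB_apply (u v : OV) : polB u v = pol u v := rfl

theorem pol_mat8 (g : dGrp) (u v : OV) : pol (mat8 g *ᵥ u) (mat8 g *ᵥ v) = pol u v := by
  have h : polB.compl₁₂ (Matrix.mulVecLin (mat8 g)) (Matrix.mulVecLin (mat8 g)) = polB := by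
    refine (Pi.basisFun (ZMod 2) (Fin 4 ⊕ Fin 4)).ext fun k => ?_
    refine (Pi.basisFun (ZMod 2) (Fin 4 ⊕ Fin 4)).ext fun l => ?_
    rw [LinearMap.compl₁₂_apply, Pi.basisFun_apply, Pi.basisFun_apply, Matrix.mulVecLin_apply,
      Matrix.mulVecLin_apply, polB_apply, polB_apply]
    exact pol_mat8_basis g k l
  exact LinearMap.congr_fun (LinearMap.congr_fun h u) v

theorem mat8_injective (g : dGrp) : Function.Injective fun u => mat8 g *ᵥ u := fun u v h =>
  eq_of_pol fun l => by rw [← pol_mat8 g u, ← pol_mat8 g v, show mat8 g *ᵥ u = mat8 g *ᵥ v from h]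

theorem mat8_root (g : dGrp) (i : Fin 120) : mat8 g *ᵥ vI8 i = vI8 (act8 g i) := by
  obtain ⟨y, hy⟩ := Finite.injective_iff_surjective.1 (mat8_injective g) (vI8 (act8 g i))
  have hy' : mat8 g *ᵥ y = vI8 (act8 g i) := hy
  have : y = vI8 i := eq_of_pol fun l => by
    rw [← pol_mat8 g, hy', mat8_basis, ← bas8_spec l]
    simp only [pol_add_right, pol_act]
  rw [← this, hy']

theorem quad_mat8 (g : dGrp) (u : OV) :
    quadFormPlus 4 (ZMod 2) (mat8 g *ᵥ u) = quadFormPlus 4 (ZMod 2) u := by
  have hperm : Function.Surjective (act8 g) := fun j => ⟨act8 g⁻¹ j, by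
    rw [← act8_mul, mul_inv_cancel, act8_one]⟩
  rcases zmod2_cases (quadFormPlus 4 (ZMod 2) u) with h | h
  · rcases zmod2_cases (quadFormPlus 4 (ZMod 2) (mat8 g *ᵥ u)) with h' | h'
    · rw [h, h']
    · exfalso
      obtain ⟨j, hj⟩ := exists_root8 h'
      obtain ⟨i, rfl⟩ := hperm j
      rw [← mat8_root] at hj
      rw [← mat8_injective g hj, quad_vI8] at h
      exact one_ne_zero h
  · obtain ⟨i, rfl⟩ := exists_root8 h
    rw [mat8_root, quad_vI8, quad_vI8]

theorem mat8_mul (g h : dGrp) : mat8 (g * h) = mat8 g * mat8 h := by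
  refine Matrix.ext fun r l => ?_
  have e : (mat8 g * mat8 h) *ᵥ Pi.single l 1 = mat8 (g * h) *ᵥ Pi.single l 1 := by
    rw [← Matrix.mulVec_mulVec, mat8_basis, Matrix.mulVec_add, mat8_root, mat8_root, mat8_basis,
      act8_mul, act8_mul]
  have := congrFun e r
  simpa [Matrix.mulVec_single_one] using this.symm

theorem mat8_one : mat8 1 = 1 := by
  refine Matrix.ext fun r l => ?_
  have : mat8 1 *ᵥ Pi.single l 1 = Pi.single l 1 := by
    rw [mat8_basis, act8_one, act8_one, bas8_spec]
  have := congrFun this r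
  simpa [Matrix.mulVec_single_one, Matrix.one_apply, Pi.single_apply] using this

/-- The action as an element of the linear group. -/
noncomputable def gl8 : dGrp →* Matrix.GeneralLinearGroup (Fin 4 ⊕ Fin 4) (ZMod 2) :=
  MonoidHom.toHomUnits { toFun := mat8, map_one' := mat8_one, map_mul' := mat8_mul }

theorem gl8_val (g : dGrp) : (gl8 g : Matrix (Fin 4 ⊕ Fin 4) (Fin 4 ⊕ Fin 4) (ZMod 2)) = mat8 g := rfl

/-- The orthogonal group. -/
abbrev O8 : Subgroup (Matrix.GeneralLinearGroup (Fin 4 ⊕ Fin 4) (ZMod 2)) :=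
  isometryGroup (ZMod 2) (quadFormPlus 4 (ZMod 2))

/-- The homomorphism to the orthogonal group. -/
noncomputable def phi8 : dGrp →* O8 := gl8.codRestrict O8 fun g u _ => quad_mat8 g u

/-- The action of an element of the orthogonal group. -/
def app8 (h : O8) (w : OV) : OV :=
  ((h : Matrix.GeneralLinearGroup (Fin 4 ⊕ Fin 4) (ZMod 2)) : Matrix _ _ (ZMod 2)) *ᵥ w

theorem app8_mul (g h : O8) (w : OV) : app8 (g * h) w = app8 g (app8 h w) := by
  simp [app8, Matrix.mulVec_mulVec]

theorem app8_one (w : OV) : app8 1 w = w := by simp [app8]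

theorem app8_ext {g h : O8} (e : ∀ w, app8 g w = app8 h w) : g = h :=
  Subtype.ext (Units.ext (Matrix.mulVec_injective (funext e)))

theorem app8_add (g : O8) (u v : OV) : app8 g (u + v) = app8 g u + app8 g v := Matrix.mulVec_add _ _ _

theorem quad_app8 (g : O8) (u : OV) :
    quadFormPlus 4 (ZMod 2) (app8 g u) = quadFormPlus 4 (ZMod 2) u := g.2 u u

theorem pol_app8 (g : O8) (u v : OV) : pol (app8 g u) (app8 g v) = pol u v := by
  have h := quad_app8 g (u + v)
  rw [app8_add, quad_add, quad_add, quad_app8, quad_app8] at h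
  exact add_left_cancel h

theorem phi8_apply (g : dGrp) (i : Fin 120) : app8 (phi8 g) (vI8 i) = vI8 (act8 g i) := mat8_root g i

theorem mem_ker_phi8 {g : dGrp} : g ∈ phi8.ker ↔ ∀ i, act8 g i = i := by
  rw [MonoidHom.mem_ker]
  constructor
  · intro h i
    refine vI8_injective ?_
    rw [← phi8_apply, h, app8_one]
  · intro h
    refine app8_ext fun w => ?_
    have hb : ∀ l, app8 (phi8 g) (Pi.single l 1) = Pi.single l 1 := fun l => by
      rw [← bas8_spec l, app8_add, phi8_apply, phi8_apply, h, h]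
    refine eq_of_pol fun l => ?_
    rw [app8_one, ← hb l, pol_app8, hb l]

end Cfsg.Agent.Leech.OctadCent
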