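/-
The action of the centraliser on all roots is the commutator subgroup of the orthogonal group.
-/
import Cfsg.Agent.Lib.Leech.OctadCent.FullRoots
import Cfsg.Agent.Lib.ClassicalSimple.OrthMatrix

set_option autoImplicit false
set_option maxRecDepth 20000

namespace Cfsg.Agent.Leech.OctadCent

open Cfsg Finset
open scoped Matrix commutatorElement

/-- The linear map of a reflection. -/
def reflLin (a : OV) : OV →ₗ[ZMod 2] OV := LinearMap.id + (polB.flip a).smulRight a

theorem reflLin_apply (a x : OV) : reflLin a x = x + pol x a • a := rfl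

theorem pol_self (a : OV) : pol a a = 0 := sum_eq_zero fun k _ => by
  rw [mul_comm (a (.inr k))]; exact CharTwo.add_self_eq_zero _

theorem pol_smul_left (c : ZMod 2) (u v : OV) : pol (c • u) v = c * pol u v := by
  rcases zmod2_cases c with rfl | rfl <;> simp [pol_zero_left]

theorem reflLin_twice (a x : OV) : reflLin a (reflLin a x) = x := by
  rw [reflLin_apply, reflLin_apply, pol_add_left, pol_smul_left, pol_self, mul_zero, add_zero, add_assoc,
    ← add_smul, CharTwo.add_self_eq_zero, zero_smul, add_zero]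

theorem quad_reflLin {a : OV} (ha : quadFormPlus 4 (ZMod 2) a = 1) (x : OV) :
    quadFormPlus 4 (ZMod 2) (reflLin a x) = quadFormPlus 4 (ZMod 2) x := by
  rw [reflLin_apply]
  rcases zmod2_cases (pol x a) with e | e
  · rw [e, zero_smul, add_zero]
  · rw [e, one_smul, quad_add, ha, e, add_assoc, CharTwo.add_self_eq_zero, add_zero]

/-- A reflection. -/
noncomputable def refl8 (a : OV) (ha : quadFormPlus 4 (ZMod 2) a = 1) : O8 :=
  ⟨⟨LinearMap.toMatrix' (reflLin a), LinearMap.toMatrix' (reflLin a),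
      by rw [← LinearMap.toMatrix'_comp, ← LinearMap.toMatrix'_id]
         exact congrArg LinearMap.toMatrix' (LinearMap.ext (reflLin_twice a)),
      by rw [← LinearMap.toMatrix'_comp, ← LinearMap.toMatrix'_id]
         exact congrArg LinearMap.toMatrix' (LinearMap.ext (reflLin_twice a))⟩,
    fun u _ => by
      show quadFormPlus 4 (ZMod 2) (LinearMap.toMatrix' (reflLin a) *ᵥ u) = _
      rw [LinearMap.toMatrix'_mulVec]
      exact quad_reflLin ha u⟩

theorem app8_refl (a : OV) (ha : quadFormPlus 4 (ZMod 2) a = 1) (x : OV) :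
    app8 (refl8 a ha) x = x + pol x a • a := by
  show LinearMap.toMatrix' (reflLin a) *ᵥ x = _
  rw [LinearMap.toMatrix'_mulVec, reflLin_apply]

theorem refl8_sq (a : OV) (ha : quadFormPlus 4 (ZMod 2) a = 1) : refl8 a ha * refl8 a ha = 1 :=
  app8_ext fun w => by
    rw [app8_mul, app8_one, app8_refl, app8_refl]
    exact reflLin_twice a w

theorem refl8_congr {a b : OV} (h : a = b) (ha : quadFormPlus 4 (ZMod 2) a = 1) :
    refl8 a ha = refl8 b (h ▸ ha) := by
  subst h; rfl

theorem refl8_conj (g : O8) (a : OV) (ha : quadFormPlus 4 (ZMod 2) a = 1) :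
    g * refl8 a ha * g⁻¹ = refl8 (app8 g a) ((quad_app8 g a).trans ha) := by
  refine app8_ext fun w => ?_
  have hsmul : ∀ (c : ZMod 2) (u : OV), app8 g (c • u) = c • app8 g u := fun c u => Matrix.mulVec_smul _ _ _
  have hw : app8 g (app8 g⁻¹ w) = w := by rw [← app8_mul, mul_inv_cancel, app8_one]
  rw [app8_mul, app8_mul, app8_refl, app8_refl, app8_add, hsmul, hw]
  congr 2
  rw [← pol_app8 g (app8 g⁻¹ w) a, hw]

theorem exists_gen_act8 {k : ℕ} (hk : k < 4) :
    ∃ g : dGrp, ∀ i : Fin 120, (act8 g i).val = (genPerms8.getD k []).getD i.val 0 := by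
  have h := List.all_eq_true.1 gens8_check k (List.mem_range.2 hk)
  simp only [genOK8, Gen.ok, Bool.and_eq_true, List.all_eq_true (p := fun i : ℕ => _), List.mem_range,
    beq_iff_eq, Bool.or_eq_true, Nat.blt_eq] at h
  obtain ⟨⟨hok, hz⟩, hroot⟩ := h
  obtain ⟨a, ha⟩ := exists_chain ((gens ++ [extraGen]).getD k []) hok
  have he : ∀ p q, inO p ≠ inO q → ((a • eight p : leechLattice) : GolayPt → ℤ) q = 0 := by
    intro p q hne
    rw [← Mathieu.idx_self (e := Mathieu.ptEnc) p, ha (fun m => if m = (Mathieu.ptEnc p).val then 8 else 0) _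
      (eight_idx (Fin.isLt _))]
    rcases hz _ (Fin.isLt (Mathieu.ptEnc p)) _ (Fin.isLt (Mathieu.ptEnc q)) with h | h
    · exact absurd h hne
    · exact h
  have hcomm : a * zElt = zElt * a := co0_ext _ _ fun p => by
    rw [mul_smul, mul_smul]
    have hzp : zElt • eight p = if inO p then eight p else -eight p := by
      refine Subtype.ext (funext fun q => ?_)
      rw [zElt_smul]
      by_cases hpq : q = p
      · subst hpq
        cases inO q <;> simp
      · cases inO p <;> cases inO q <;> simp [eight_val, Pi.single_eq_of_ne hpq]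
    refine Subtype.ext (funext fun q => ?_)
    rw [zElt_smul, hzp]
    have h0 := he p q
    cases hp : inO p <;> cases hq : inO q <;> simp [hp, hq] at h0 <;>
      simp [co0_neg, h0]
  refine ⟨⟨a, mem_dGrp.2 hcomm⟩, fun i => ?_⟩
  obtain ⟨hlt, hcase⟩ := hroot i.val i.isLt
  rw [act8_eq (g := ⟨a, mem_dGrp.2 hcomm⟩) (j := ⟨_, hlt⟩) (i := i) ?_]
  rcases hcase with hc | hc
  · refine Or.inl (Subtype.ext ?_)
    show ((a • rootW i : leechLattice) : GolayPt → ℤ) = _
    rw [ha (vecO (rootL8.getD i.val [])) _ rfl]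
    funext p
    exact hc _ (Fin.isLt _)
  · refine Or.inr (Subtype.ext ?_)
    show ((a • rootW i : leechLattice) : GolayPt → ℤ) = _
    rw [ha (vecO (rootL8.getD i.val [])) _ rfl]
    funext p
    exact hc _ (Fin.isLt _)

theorem orbit8_all (i : Fin 120) : ∃ g : dGrp, act8 g vIdx = i := by
  have h := tree8_check
  rw [Bool.and_eq_true] at h
  obtain ⟨hT, hcov⟩ := h
  have key : ∀ (steps : List (ℕ × ℕ × ℕ)) (known : List ℕ),
      (∀ a ∈ known, ∃ g : dGrp, (act8 g vIdx).val = a) → treeOK8 known steps = true →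
      ∀ a ∈ steps.map Prod.fst, ∃ g : dGrp, (act8 g vIdx).val = a := by
    intro steps
    induction steps with
    | nil => simp
    | cons s rest ih =>
      obtain ⟨a, p, k⟩ := s
      intro known hk hok b hb
      simp only [treeOK8, Bool.and_eq_true, Nat.blt_eq, List.contains_iff_mem, beq_iff_eq] at hok
      obtain ⟨⟨⟨hk4, hp⟩, happ⟩, hrest⟩ := hok
      obtain ⟨g, hg⟩ := hk p hp
      obtain ⟨d, hd⟩ := exists_gen_act8 hk4
      have hnew : ∃ e : dGrp, (act8 e vIdx).val = a := ⟨d * g, by rw [act8_mul, hd, hg, happ]⟩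
      rcases List.mem_cons.1 hb with rfl | hb
      · exact hnew
      · exact ih (a :: known) (fun c hc => (List.mem_cons.1 hc).elim (fun e => e ▸ hnew) (hk c)) hrest b hb
  have hone : (act8 (1 : dGrp) vIdx).val = 63 := congrArg Fin.val (act8_one vIdx)
  have hi := List.all_eq_true.1 hcov i.val (List.mem_range.2 i.isLt)
  simp only [Bool.or_eq_true, beq_iff_eq, List.contains_iff_mem] at hi
  rcases hi with hi | hi
  · exact ⟨1, Fin.ext (hone.trans hi.symm)⟩
  · obtain ⟨g, hg⟩ := key tree8 [63] (fun a ha => ⟨1, by rw [List.mem_singleton.1 ha]; exact hone⟩) hT _ hi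
    exact ⟨g, Fin.ext hg⟩

/-- The inclusion of the centraliser fixing the vector. -/
def incl (g : cGrp) : dGrp := ⟨g, cGrp_le g.2⟩

theorem act8_incl (g : cGrp) (i : Fin 63) : act8 (incl g) (up i) = up (act g i) := by
  refine act8_eq ?_
  show (g : Co0) • rootW (up i) = _ ∨ (g : Co0) • rootW (up i) = _
  rw [rootW_up, rootW_up]
  exact act_spec g i

theorem act8_incl_v (g : cGrp) : act8 (incl g) vIdx = vIdx := by
  refine act8_eq (Or.inl ?_)
  show (g : Co0) • rootW vIdx = rootW vIdx
  rw [rootW_v]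
  exact (mem_cGrp.1 g.2).1

/-- The vector of the fixed root. -/
def vv8 : OV := vI8 vIdx

theorem quad_vv8 : quadFormPlus 4 (ZMod 2) vv8 = 1 := quad_vI8 _

/-- The reflection at the fixed root. -/
noncomputable def rv : O8 := refl8 vv8 quad_vv8

/-- `-1` in the centraliser. -/
def negD : dGrp := ⟨negElt, mem_dGrp.2 (Subgroup.mem_center_iff.1 negElt_mem_center zElt).symm⟩

theorem act8_negD (i : Fin 120) : act8 negD i = i := act8_eq (Or.inr (negElt_smul _))

/-- The kernel of the action consists of the kernel in the smaller centraliser and its negatives. -/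
theorem eq_ker_of_fix {d : dGrp} (hv : act8 d vIdx = vIdx) (h63 : ∀ i, act8 d (up i) = up i) :
    (∀ i, act8 d i = i) ∧ ∃ q, InKer q ∧ ((d : Co0) = monoElt q ∨ (d : Co0) = negElt * monoElt q) := by
  have main : ∀ e : dGrp, (e : Co0) • Spor.leechU = Spor.leechU → (∀ i, act8 e (up i) = up i) →
      (∀ i, act8 e i = i) ∧ ∃ q, InKer q ∧ (e : Co0) = monoElt q := by
    intro e hev he
    have hmem : (e : Co0) ∈ cGrp := mem_cGrp.2 ⟨hev, mem_dGrp.1 e.2⟩
    have hker : (⟨e, hmem⟩ : cGrp) ∈ phi.ker := mem_ker_phi.2 fun i => act_eq (by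
      have h := act8_spec e (up i)
      rwa [he, rootW_up] at h)
    obtain ⟨q, hq, hqe⟩ := exists_of_ker hker
    exact ⟨fun i => act8_eq (Or.inl (by
      show (e : Co0) • rootW i = rootW i
      rw [show (e : Co0) = monoElt q from hqe.symm]
      exact hq.fix_supp (supp_rootW i))), q, hq, hqe.symm⟩
  have h := act8_spec d vIdx
  rw [hv, rootW_v] at h
  rcases h with h | h
  · obtain ⟨h1, q, hq, he⟩ := main d h h63
    exact ⟨h1, q, hq, Or.inl he⟩
  · obtain ⟨h1, q, hq, he⟩ := main (negD * d)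
      (by rw [Subgroup.coe_mul, mul_smul, h]; exact (negElt_smul _).trans (neg_neg _))
      (fun i => by rw [act8_mul, h63, act8_negD])
    refine ⟨fun i => ?_, q, hq, Or.inr ?_⟩
    · have := h1 i
      rwa [act8_mul, act8_negD] at this
    · have hsq : negElt * negElt = 1 := eq_of_smul_eq_smul (α := leechLattice) fun x => by
        rw [mul_smul, negElt_smul, negElt_smul, neg_neg, one_smul]
      rw [← he]
      show (d : Co0) = negElt * (negElt * (d : Co0))
      rw [← mul_assoc, hsq, one_mul]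

theorem phi8_eq_one_of_fix {d : dGrp} (hv : app8 (phi8 d) vv8 = vv8)
    (h63 : ∀ i, app8 (phi8 d) (vI8 (up i)) = vI8 (up i)) : phi8 d = 1 :=
  MonoidHom.mem_ker.1 (mem_ker_phi8.2 (eq_ker_of_fix
    (vI8_injective (by rw [← phi8_apply]; exact hv))
    (fun i => vI8_injective (by rw [← phi8_apply]; exact h63 i))).1)

theorem pol_up_v (i : Fin 63) : pol (vI8 (up i)) vv8 = 0 := by
  have h := List.all_eq_true.1 perp_root_check i.val (List.mem_range.2 (by omega))
  rw [vv8, vI8, vI8, pol_vec8]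
  have : formB8 (cd8 (up i).val) (cd8 vIdx.val) = false := by
    cases hb : formB8 (cd8 (up i).val) (cd8 vIdx.val)
    · rfl
    · rw [show formB8 (cd8 i.val) (cd8 63) = true from hb] at h
      have : Nat.blt i.val 63 = true := Nat.blt_eq.symm ▸ i.isLt
      simp_all
  rw [this]; rfl

theorem rv_fix {w : OV} (h : pol w vv8 = 0) : app8 rv w = w := by
  rw [rv, app8_refl, h, zero_smul, add_zero]

theorem rv_not_mem : rv ∉ phi8.range := by
  rintro ⟨d, hd⟩
  have h1 : phi8 d = 1 := phi8_eq_one_of_fix (by rw [hd]; exact rv_fix (pol_self _))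
    (fun i => by rw [hd]; exact rv_fix (pol_up_v i))
  obtain ⟨z, -, hz⟩ : ∃ z, z < 120 ∧ formB8 (cd8 63) (cd8 z) = true := by
    obtain ⟨z, hz, h⟩ := List.any_eq_true.1 (List.all_eq_true.1 two_step_check 0 (List.mem_range.2 (by norm_num)))
    rw [Bool.and_eq_true] at h
    exact ⟨z, List.mem_range.1 hz, h.1⟩
  have h2 := congrArg (fun g : O8 => app8 g (vec8 (cd8 z))) (hd.symm.trans h1)
  simp only [rv, app8_refl, app8_one] at h2
  rw [add_eq_left, pol_comm, show vv8 = vec8 (cd8 63) from rfl, pol_vec8, hz, if_pos rfl, one_smul] at h2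
  have := quad_vv8
  rw [show vv8 = vec8 (cd8 63) from rfl, h2] at this
  simp [quadFormPlus] at this

theorem pol_up (i j : Fin 63) :
    pol (vI8 (up i)) (vI8 (up j)) = sympForm 3 (ZMod 2) (vI i) (vI j) := by
  rw [pol_vI8, form_vI, rootW_up, rootW_up]

/-- A permutation of the roots orthogonal to the fixed one preserving the form comes from the group. -/
theorem exists_of_form {π : Fin 63 → Fin 63}
    (h : ∀ i j, sympForm 3 (ZMod 2) (vI (π i)) (vI (π j)) = sympForm 3 (ZMod 2) (vI i) (vI j)) :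
    ∃ g : cGrp, ∀ i, act g i = π i := by
  let M : Matrix (Fin 3 ⊕ Fin 3) (Fin 3 ⊕ Fin 3) (ZMod 2) := fun r l => vI (π (bas l)) r
  have hM : M ∈ Matrix.symplecticGroup (Fin 3) (ZMod 2) := by
    rw [SymplecticGroup.mem_iff']
    ext k l
    have e : (Mᵀ * Matrix.J (Fin 3) (ZMod 2) * M) k l =
        sympForm 3 (ZMod 2) (vI (π (bas k))) (vI (π (bas l))) := by
      rw [Matrix.mul_assoc]
      rfl
    rw [e, h, vI_bas, vI_bas]
    simp [sympForm, Matrix.mulVec_single]
  obtain ⟨g, hg⟩ := MonoidHom.range_eq_top.1 phi_range ⟨M, hM⟩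
  refine ⟨g, fun i => vI_injective (eq_of_form fun l => ?_)⟩
  obtain ⟨y, hy⟩ : ∃ y, (phi g).1 *ᵥ y = Pi.single l 1 := ⟨(phi g)⁻¹.1 *ᵥ Pi.single l 1, by
    rw [Matrix.mulVec_mulVec, ← Submonoid.coe_mul, mul_inv_cancel, Submonoid.coe_one, Matrix.one_mulVec]⟩
  have hcol : ∀ k, vI (act g (bas k)) = vI (π (bas k)) := fun k => by
    rw [← phi_apply, vI_bas, hg]
    exact Matrix.mulVec_single_one M k
  have key : ∀ z, sympForm 3 (ZMod 2) (vI (act g i)) ((phi g).1 *ᵥ z) =
      sympForm 3 (ZMod 2) (vI (π i)) ((phi g).1 *ᵥ z) := by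
    intro z
    rw [← ClassicalSimple.sympBilin_apply, ← ClassicalSimple.sympBilin_apply]
    refine LinearMap.congr_fun (?_ : (ClassicalSimple.sympBilin 3 (ZMod 2) (vI (act g i))).comp
      (Matrix.mulVecLin (phi g).1) = (ClassicalSimple.sympBilin 3 (ZMod 2) (vI (π i))).comp
      (Matrix.mulVecLin (phi g).1)) z
    refine (Pi.basisFun (ZMod 2) (Fin 3 ⊕ Fin 3)).ext fun k => ?_
    simp only [LinearMap.comp_apply, Matrix.mulVecLin_apply, Pi.basisFun_apply,
      ClassicalSimple.sympBilin_apply]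
    rw [← vI_bas, phi_apply]
    conv_rhs => rw [hcol, h]
    rw [form_act]
  rw [← hy]
  exact key y

/-- An element fixing the vector comes from the group, up to the reflection. -/
theorem fix_cases {h : O8} (hv : app8 h vv8 = vv8) :
    ∃ g : cGrp, h = phi8 (incl g) ∨ h = phi8 (incl g) * rv := by
  have hperm : ∀ i : Fin 63, ∃ j : Fin 63, app8 h (vI8 (up i)) = vI8 (up j) := by
    intro i
    obtain ⟨y, hy⟩ := exists_root8 ((quad_app8 h _).trans (quad_vI8 (up i)))
    have hp : pol (vI8 y) vv8 = 0 := by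
      rw [hy]; conv_lhs => rw [← hv]
      rw [pol_app8, pol_up_v]
    have hy63 : y.val < 64 := by
      have h' := List.all_eq_true.1 perp_root_check y.val (List.mem_range.2 y.isLt)
      rw [vv8, vI8, vI8, pol_vec8] at hp
      cases hb : formB8 (cd8 y.val) (cd8 63)
      · simpa [hb, Nat.blt_eq] using h'
      · rw [show formB8 (cd8 y.val) (cd8 vIdx.val) = true from hb] at hp
        simp at hp
    have hne : y ≠ vIdx := fun e => by
      subst e
      have e2 : app8 h (vI8 (up i)) = app8 h vv8 := hy.symm.trans hv.symm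
      have e3 : up i = vIdx := vI8_injective (by
        show vI8 (up i) = vv8
        have e4 := congrArg (app8 h⁻¹) e2
        simpa only [← app8_mul, inv_mul_cancel, app8_one] using e4)
      exact absurd (congrArg Fin.val e3) (show i.val ≠ 63 by omega)
    have : y.val < 63 := by
      have : y.val ≠ 63 := fun e => hne (Fin.ext e)
      omega
    exact ⟨⟨y.val, this⟩, hy.symm⟩
  choose π hπ using hperm
  obtain ⟨g, hg⟩ := exists_of_form (π := π) fun i j => by
    rw [← pol_up, ← pol_up, ← hπ, ← hπ, pol_app8]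
  refine ⟨g, ?_⟩
  set k : O8 := (phi8 (incl g))⁻¹ * h with hk
  have hgv : app8 (phi8 (incl g)) vv8 = vv8 := by rw [vv8, phi8_apply, act8_incl_v]
  have hkv : app8 k vv8 = vv8 := by
    rw [hk, app8_mul, hv]
    conv_lhs => rw [← hgv, ← app8_mul, inv_mul_cancel, app8_one]
  have hk63 : ∀ i, app8 k (vI8 (up i)) = vI8 (up i) := fun i => by
    rw [hk, app8_mul, hπ, ← hg, ← act8_incl, ← phi8_apply, ← app8_mul, inv_mul_cancel, app8_one]
  have hd : ∀ w, app8 k w + w = 0 ∨ app8 k w + w = vv8 := by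
    intro w
    set d := app8 k w + w with hdef
    have hz : ∀ x, app8 k x = x → pol d x = 0 := fun x hx => by
      rw [hdef, pol_add_left]
      conv_lhs => rw [← hx, pol_app8, hx]
      exact CharTwo.add_self_eq_zero _
    obtain ⟨hlt, he⟩ := code8_spec d
    have h' := List.all_eq_true.1 perp_check _ (List.mem_range.2 hlt)
    simp only [Bool.or_eq_true, beq_iff_eq, List.any_eq_true, List.mem_range] at h'
    rcases h' with ((e | e) | e) | ⟨i, hi, e⟩
    · left; rw [← he, e]; funext l; rcases l with a | a <;> simp [vec8]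
    · right; rw [← he, e]; rfl
    · exfalso
      have h0 := hz vv8 hkv
      rw [← he, show vv8 = vec8 (cd8 63) from rfl, pol_vec8, e] at h0
      simp at h0
    · exfalso
      have h0 := hz (vI8 (up ⟨i, hi⟩)) (hk63 _)
      rw [← he, vI8, pol_vec8, show formB8 (code8 d) (cd8 (up ⟨i, hi⟩).val) = true from e] at h0
      simp at h0
  obtain ⟨z, hz⟩ : ∃ z, pol (vec8 z) vv8 = 1 := by
    obtain ⟨z, -, h'⟩ := List.any_eq_true.1 (List.all_eq_true.1 two_step_check 0 (List.mem_range.2 (by norm_num)))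
    rw [Bool.and_eq_true] at h'
    exact ⟨cd8 z, by rw [pol_comm, show vv8 = vec8 (cd8 63) from rfl, pol_vec8, h'.1]; rfl⟩
  have hform : ∀ w, ∃ c : ZMod 2, app8 k w = w + c • vv8 := fun w => by
    rcases hd w with e | e
    · exact ⟨0, by rw [zero_smul, add_zero]; exact (CharTwo.add_eq_zero.1 e)⟩
    · exact ⟨1, by rw [one_smul, ← e, add_comm, add_assoc, CharTwo.add_self_eq_zero, add_zero]⟩
  obtain ⟨c0, hc0⟩ := hform (vec8 z)
  have hall : ∀ w, app8 k w = w + (c0 * pol w vv8) • vv8 := by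
    intro w
    obtain ⟨c, hc⟩ := hform w
    have e := pol_app8 k w (vec8 z)
    rw [hc, hc0, pol_add_left, pol_add_right, pol_add_right, pol_smul_left, pol_smul_left,
      pol_comm w (c0 • vv8), pol_smul_left, pol_comm vv8 (vec8 z), hz, pol_comm vv8 w,
      pol_comm vv8 (c0 • vv8), pol_smul_left, pol_self, mul_zero, mul_zero, add_zero, mul_one,
      add_assoc, add_eq_left, add_eq_zero_iff_eq_neg, CharTwo.neg_eq] at e
    rw [hc, ← e]
  rcases zmod2_cases c0 with e | e
  · refine Or.inl ?_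
    have : k = 1 := app8_ext fun w => by rw [hall, e, zero_mul, zero_smul, add_zero, app8_one]
    exact (inv_mul_eq_one.1 this).symm
  · refine Or.inr ?_
    have : k = rv := app8_ext fun w => by rw [hall, e, one_mul, rv, app8_refl]
    rw [← this, hk, mul_inv_cancel_left]

theorem omega_normal_mem {a b : O8} : a * b * a⁻¹ * b⁻¹ ∈ Omega (ZMod 2) (quadFormPlus 4 (ZMod 2)) :=
  Subgroup.commutator_mem_commutator (Subgroup.mem_top a) (Subgroup.mem_top b)

theorem refl_pair_mem (i : Fin 120) :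
    refl8 (vI8 i) (quad_vI8 i) * rv ∈ Omega (ZMod 2) (quadFormPlus 4 (ZMod 2)) := by
  obtain ⟨d, hd⟩ := orbit8_all i
  have e : refl8 (vI8 i) (quad_vI8 i) = phi8 d * rv * (phi8 d)⁻¹ := by
    rw [rv, refl8_conj]
    exact (refl8_congr (by rw [vv8, phi8_apply, hd]) _).symm
  rw [e]
  nth_rewrite 2 [show rv = rv⁻¹ from eq_inv_of_mul_eq_one_left (refl8_sq _ _)]
  exact omega_normal_mem

theorem omega_move (i : Fin 120) :
    ∃ ω ∈ Omega (ZMod 2) (quadFormPlus 4 (ZMod 2)), app8 ω vv8 = vI8 i := by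
  obtain ⟨z, hz, h⟩ := List.any_eq_true.1 (List.all_eq_true.1 two_step_check i.val (List.mem_range.2 i.isLt))
  rw [Bool.and_eq_true] at h
  set zz : Fin 120 := ⟨z, List.mem_range.1 hz⟩ with hzz
  have h1 : pol vv8 (vI8 zz) = 1 := by rw [vv8, vI8, vI8, pol_vec8, show formB8 (cd8 vIdx.val) (cd8 zz.val) = true from h.1]; rfl
  have h2 : pol (vI8 zz) (vI8 i) = 1 := by rw [vI8, vI8, pol_vec8, show formB8 (cd8 zz.val) (cd8 i.val) = true from h.2]; rfl
  have hsum : ∀ a b : OV, quadFormPlus 4 (ZMod 2) a = 1 → quadFormPlus 4 (ZMod 2) b = 1 → pol a b = 1 →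
      quadFormPlus 4 (ZMod 2) (a + b) = 1 := fun a b ha hb hab => by
    rw [quad_add, ha, hb, hab]; decide
  obtain ⟨a, ha⟩ := exists_root8 (hsum _ _ quad_vv8 (quad_vI8 zz) h1)
  obtain ⟨b, hb⟩ := exists_root8 (hsum _ _ (quad_vI8 zz) (quad_vI8 i) h2)
  refine ⟨(refl8 (vI8 b) (quad_vI8 b) * rv) * (refl8 (vI8 zz) (quad_vI8 zz) * rv)⁻¹ *
    (refl8 (vI8 a) (quad_vI8 a) * rv),
    mul_mem (mul_mem (refl_pair_mem b) (inv_mem (refl_pair_mem zz))) (refl_pair_mem a), ?_⟩
  have hfirst : app8 (refl8 (vI8 a) (quad_vI8 a) * rv) vv8 = vI8 zz := by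
    rw [app8_mul, rv_fix (pol_self _), app8_refl, ha, pol_add_right, pol_self, h1, zero_add, one_smul,
      ← add_assoc, CharTwo.add_self_eq_zero, zero_add]
  rw [app8_mul, hfirst, mul_inv_rev, mul_assoc, ← mul_assoc rv rv⁻¹, mul_inv_cancel, one_mul,
    inv_eq_of_mul_eq_one_left (refl8_sq _ _), app8_mul, app8_refl (vI8 zz), pol_self, zero_smul, add_zero,
    app8_refl, hb, pol_add_right, pol_self, h2, zero_add, one_smul, ← add_assoc, CharTwo.add_self_eq_zero,
    zero_add]

theorem incl_mem_omega (g : cGrp) : phi8 (incl g) ∈ Omega (ZMod 2) (quadFormPlus 4 (ZMod 2)) := by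
  have h : phi g ∈ (commutator cGrp).map phi := by
    rw [commutator_def, Subgroup.map_commutator, Subgroup.map_top_of_surjective phi
      (MonoidHom.range_eq_top.1 phi_range), ← commutator_def,
      ClassicalSimple.symplectic_commutator_eq_top (Or.inl le_rfl)]
    exact Subgroup.mem_top _
  obtain ⟨c, hc, hce⟩ := h
  let ι : cGrp →* dGrp := Subgroup.inclusion cGrp_le
  have hc' : phi8 (incl c) ∈ Omega (ZMod 2) (quadFormPlus 4 (ZMod 2)) := by
    have := Subgroup.mem_map_of_mem (phi8.comp ι) hc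
    rw [commutator_def, Subgroup.map_commutator] at this
    exact Subgroup.commutator_mono le_top le_top this
  have he : phi8 (incl (g * c⁻¹)) = 1 := phi8_eq_one_of_fix (by rw [vv8, phi8_apply, act8_incl_v]) fun i => by
    rw [phi8_apply, act8_incl]
    have : g * c⁻¹ ∈ phi.ker := by rw [MonoidHom.mem_ker, map_mul, map_inv, hce, mul_inv_cancel]
    rw [mem_ker_phi.1 this]
  have : incl g = incl (g * c⁻¹) * incl c := Subtype.ext (by simp [incl])
  rw [this, map_mul, he, one_mul]
  exact hc'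

theorem range_cases (h : O8) : h ∈ phi8.range ∨ h * rv ∈ phi8.range := by
  obtain ⟨i, hi⟩ := exists_root8 ((quad_app8 h _).trans quad_vv8)
  obtain ⟨d, hd⟩ := orbit8_all i
  obtain ⟨g, hg⟩ := fix_cases (h := (phi8 d)⁻¹ * h) (by
    rw [app8_mul, ← hi, ← hd, ← phi8_apply, ← app8_mul, inv_mul_cancel, app8_one]; rfl)
  rcases hg with e | e
  · exact Or.inl ⟨d * incl g, by rw [map_mul, ← e, mul_inv_cancel_left]⟩
  · refine Or.inr ⟨d * incl g, ?_⟩
    rw [inv_mul_eq_iff_eq_mul] at e
    rw [e, map_mul, mul_assoc, mul_assoc, rv, refl8_sq, mul_one]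

theorem range_index : (phi8.range).index = 2 := by
  refine Subgroup.index_eq_two_iff.2 ⟨rv, fun b => ?_⟩
  rcases range_cases b with h | h
  · exact Or.inr ⟨h, fun h' => rv_not_mem (by simpa using mul_mem (inv_mem h) h')⟩
  · exact Or.inl ⟨h, fun h' => rv_not_mem (by simpa using mul_mem (inv_mem h') h)⟩

theorem omega_le_range : Omega (ZMod 2) (quadFormPlus 4 (ZMod 2)) ≤ phi8.range := by
  have h2 := range_index
  rw [Omega, commutator_def, Subgroup.commutator_le]
  intro a _ b _
  simp only [commutatorElement_def, Subgroup.mul_mem_iff_of_index_two h2, inv_mem_iff]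
  tauto

theorem phi8_range : phi8.range = Omega (ZMod 2) (quadFormPlus 4 (ZMod 2)) := by
  refine le_antisymm ?_ omega_le_range
  rintro _ ⟨d, rfl⟩
  obtain ⟨ω, hω, hωv⟩ := omega_move (act8 d vIdx)
  obtain ⟨g, hg⟩ := fix_cases (h := ω⁻¹ * phi8 d) (by
    rw [app8_mul, show app8 (phi8 d) vv8 = vI8 (act8 d vIdx) from phi8_apply d vIdx, ← hωv, ← app8_mul,
      inv_mul_cancel, app8_one])
  rcases hg with e | e <;> rw [inv_mul_eq_iff_eq_mul] at e
  · rw [e]; exact mul_mem hω (incl_mem_omega g)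
  · exfalso
    refine rv_not_mem ?_
    have : rv = (phi8 (incl g))⁻¹ * ω⁻¹ * phi8 d := by rw [e]; group
    rw [this]
    exact mul_mem (mul_mem (inv_mem ⟨_, rfl⟩) (inv_mem (omega_le_range hω))) ⟨_, rfl⟩

theorem omega_center : Subgroup.center (Omega (ZMod 2) (quadFormPlus 4 (ZMod 2))) = ⊥ := by
  rw [Subgroup.eq_bot_iff_forall]
  intro z hz
  have hcomm : ∀ d, phi8 d * (z : O8) = (z : O8) * phi8 d := fun d =>
    congrArg Subtype.val (Subgroup.mem_center_iff.1 hz ⟨phi8 d, phi8_range ▸ ⟨d, rfl⟩⟩)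
  obtain ⟨y, hy⟩ := exists_root8 ((quad_app8 (z : O8) _).trans quad_vv8)
  have hfix : ∀ g : cGrp, act8 (incl g) y = y := fun g => vI8_injective (by
    rw [← phi8_apply, hy, ← app8_mul, hcomm, app8_mul]
    congr 1
    rw [vv8, phi8_apply, act8_incl_v])
  have htrans : ∀ i j : Fin 63, ∃ g : cGrp, act g i = j := fun i j => by
    obtain ⟨g₁, h₁⟩ := orbit_all i
    obtain ⟨g₂, h₂⟩ := orbit_all j
    refine ⟨g₂ * g₁⁻¹, ?_⟩
    rw [← h₁, ← act_mul, inv_mul_cancel_right, h₂]
  have hyv : y = vIdx := by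
    rcases lt_trichotomy y.val 63 with h | h | h
    · exfalso
      obtain ⟨j, hj⟩ : ∃ j : Fin 63, j ≠ ⟨y.val, h⟩ :=
        exists_ne (α := Fin 63) ⟨y.val, h⟩
      obtain ⟨g, hg⟩ := htrans ⟨y.val, h⟩ j
      have e := hfix g
      rw [show y = up ⟨y.val, h⟩ from rfl, act8_incl, hg] at e
      exact hj (Fin.ext (congrArg (fun i : Fin 120 => i.val) e))
    · exact Fin.ext h
    · exfalso
      have hn := List.all_eq_true.1 nonconst_check y.val (List.mem_range.2 y.isLt)
      have hb : formB8 (cd8 y.val) (cd8 63) = true := by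
        have h' := List.all_eq_true.1 perp_root_check y.val (List.mem_range.2 y.isLt)
        cases hb : formB8 (cd8 y.val) (cd8 63)
        · rw [hb, if_neg Bool.false_ne_true, Nat.blt_eq] at h'; omega
        · rfl
      simp only [hb, Bool.not_true, Bool.false_or, List.any_eq_true, List.mem_range, bne_iff_ne] at hn
      obtain ⟨i, hi, j, hj, hne⟩ := hn
      obtain ⟨g, hg⟩ := htrans ⟨i, hi⟩ ⟨j, hj⟩
      have e := pol_act (incl g) y (up ⟨i, hi⟩)
      rw [hfix g, act8_incl, hg, vI8, vI8, vI8, pol_vec8, pol_vec8] at e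
      revert hne e
      show formB8 (cd8 y.val) (cd8 i) ≠ formB8 (cd8 y.val) (cd8 j) →
        ((if formB8 (cd8 y.val) (cd8 j) then (1 : ZMod 2) else 0) =
          if formB8 (cd8 y.val) (cd8 i) then 1 else 0) → False
      cases formB8 (cd8 y.val) (cd8 i) <;> cases formB8 (cd8 y.val) (cd8 j) <;> simp
  subst hyv
  have hall : ∀ i, app8 (z : O8) (vI8 i) = vI8 i := fun i => by
    obtain ⟨d, hd⟩ := orbit8_all i
    rw [← hd, ← phi8_apply d vIdx, ← app8_mul, ← hcomm, app8_mul]
    congr 1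
    exact hy.symm
  refine Subtype.ext (app8_ext fun w => eq_of_pol fun l => ?_)
  have hl : app8 (z : O8) (Pi.single l 1) = Pi.single l 1 := by
    rw [← bas8_spec l, app8_add, hall, hall]
  rw [OneMemClass.coe_one, app8_one]
  conv_lhs => rw [← hl, pol_app8]

theorem pCore_omega : Cfsg.pCore 2 (Omega (ZMod 2) (quadFormPlus 4 (ZMod 2))) = ⊥ := by
  have hQ : quadFormPlus 4 (ZMod 2) = ⇑(Forms.quadPlus 4 (ZMod 2)) := (funext Forms.quadPlus_apply).symm
  have h5 : 5 ≤ Fintype.card (Fin 4 ⊕ Fin 4) := by simp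
  have hperf : commutator (Omega (ZMod 2) (quadFormPlus 4 (ZMod 2))) = ⊤ := by
    rw [hQ]
    exact ClassicalSimple.Omega_perfect _ (Forms.quadPlus_nondegenerate 4) h5
  have hsimp : IsSimpleGroup (Cfsg.POmega (ZMod 2) (quadFormPlus 4 (ZMod 2))) := by
    rw [hQ]
    exact ClassicalSimple.POmega_isSimpleGroup _ (Forms.quadPlus_nondegenerate 4) h5
  rw [Cfsg.pCore, sSup_eq_bot]
  rintro N ⟨hN, hp⟩
  have : N.Normal := hN
  let π := QuotientGroup.mk' (Subgroup.center (Omega (ZMod 2) (quadFormPlus 4 (ZMod 2))))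
  have hsurj : Function.Surjective π := QuotientGroup.mk'_surjective _
  rcases (hN.map π hsurj).eq_bot_or_eq_top with h | h
  · rw [← le_bot_iff, ← omega_center]
    intro x hx
    have := (Subgroup.map_eq_bot_iff N).1 h hx
    rwa [QuotientGroup.ker_mk'] at this
  · exfalso
    have hinj : Function.Injective π := by
      rw [← MonoidHom.ker_eq_bot_iff, QuotientGroup.ker_mk', omega_center]
    have hN' : N = ⊤ := Subgroup.map_injective hinj
      (h.trans (Subgroup.map_top_of_surjective π hsurj).symm)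
    subst hN'
    have : Fact (Nat.Prime 2) := ⟨Nat.prime_two⟩
    have hp' := hp.of_equiv Subgroup.topEquiv
    have := hp'.isNilpotent
    have : Nontrivial (Omega (ZMod 2) (quadFormPlus 4 (ZMod 2))) := by
      obtain ⟨g, hg⟩ := exists_gen_act (k := 0) (by norm_num)
      refine ⟨⟨⟨phi8 (incl g), incl_mem_omega g⟩, 1, fun e => ?_⟩⟩
      have e' : phi8 (incl g) = 1 := congrArg Subtype.val e
      have hnot : ∃ i : Fin 63, (genPerms.getD 0 []).getD i.val 0 ≠ i.val := by decide +kernel
      obtain ⟨i, hi⟩ := hnot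
      have h1 := mem_ker_phi8.1 (MonoidHom.mem_ker.2 e') (up i)
      rw [act8_incl] at h1
      exact hi ((hg i).symm.trans (congrArg (fun j : Fin 120 => j.val) h1))
    exact (Group.IsSolvable.commutator_lt_top_of_nontrivial (Omega (ZMod 2) (quadFormPlus 4 (ZMod 2)))).ne hperf

end Cfsg.Agent.Leech.OctadCent
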