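/-
The centraliser of an octad sign change in the first Conway group.
-/
import Cfsg.Agent.Lib.Leech.OctadCent.FullImage
import Cfsg.Agent.Lib.LocalChar.Basic

set_option autoImplicit false
set_option maxRecDepth 20000

namespace Cfsg.Agent.Leech.OctadCent

open Cfsg Finset

/-- The involution of `Co1`. -/
def zC : Spor.Co1 := (zElt : Co0)

/-- Its centraliser. -/
abbrev cC : Subgroup Spor.Co1 := Subgroup.centralizer ({zC} : Set Spor.Co1)

theorem negElt_sq : negElt * negElt = 1 := eq_of_smul_eq_smul (α := leechLattice) fun x => by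
  rw [mul_smul, negElt_smul, negElt_smul, neg_neg, one_smul]

theorem mk_eq_cases {a b : Co0} (h : (a : Spor.Co1) = (b : Spor.Co1)) : a = b ∨ a = negElt * b := by
  rcases center_eq (QuotientGroup.eq.1 h) with e | e
  · exact Or.inl (inv_mul_eq_one.1 e)
  · right
    rw [inv_mul_eq_iff_eq_mul] at e
    rw [e, Subgroup.mem_center_iff.1 negElt_mem_center a, ← mul_assoc, negElt_sq, one_mul]

theorem mk_negElt_mul (a : Co0) : ((negElt * a : Co0) : Spor.Co1) = (a : Spor.Co1) := by
  rw [QuotientGroup.mk_mul, (QuotientGroup.eq_one_iff negElt).2 negElt_mem_center, one_mul]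

/-- No element conjugates the sign change to its negative. -/
theorem not_neg_conj {g : Co0} : g * zElt ≠ negElt * (zElt * g) := by
  intro h
  have hoff : ∀ i p, inO i = false → inO p = false → ((g • eight i : leechLattice) : GolayPt → ℤ) p = 0 := by
    intro i p hi hp
    have he : zElt • eight i = -eight i := by
      refine Subtype.ext (funext fun q => ?_)
      rw [zElt_smul, AddSubgroup.coe_neg, Pi.neg_apply, eight_val]
      rcases eq_or_ne q i with rfl | hq
      · simp [hi]
      · simp [Pi.single_eq_of_ne hq]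
    have h' := congrArg (fun x : Co0 => ((x • eight i : leechLattice) : GolayPt → ℤ) p) h
    simp only [mul_smul, he, co0_neg, negElt_smul, AddSubgroup.coe_neg, Pi.neg_apply, zElt_smul, hp,
      Bool.false_eq_true, if_false] at h'
    omega
  have hcol : ∀ i p, ((g • eight i : leechLattice) : GolayPt → ℤ) p =
      ((g⁻¹ • eight p : leechLattice) : GolayPt → ℤ) i := fun i p => by
    have h' := co0_dot g (eight i) (g⁻¹ • eight p)
    rw [smul_inv_smul] at h'
    simp only [dotInt, eight_val, Pi.single_apply, ite_mul, mul_ite, zero_mul, mul_zero, sum_ite_eq',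
      mem_univ, if_true] at h'
    omega
  have hsum : ∀ p, ∑ i, ((g • eight i : leechLattice) : GolayPt → ℤ) p ^ 2 = 64 := fun p => by
    simp only [hcol]
    have h' := co0_norm g⁻¹ (eight p)
    rw [eight_val] at h'
    simp only [sqNorm, Pi.single_apply, ite_pow, ne_eq, OfNat.ofNat_ne_zero, not_false_eq_true, zero_pow,
      sum_ite_eq', mem_univ, if_true] at h'
    exact h'
  have hrow : ∀ i, ∑ p, ((g • eight i : leechLattice) : GolayPt → ℤ) p ^ 2 = 64 := fun i => by
    have h' := co0_norm g (eight i)
    rw [eight_val] at h'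
    simp only [sqNorm, Pi.single_apply, ite_pow, ne_eq, OfNat.ofNat_ne_zero, not_false_eq_true, zero_pow,
      sum_ite_eq', mem_univ, if_true] at h'
    exact h'
  set off : Finset GolayPt := univ.filter fun i => inO i = false with hoffdef
  set on : Finset GolayPt := univ.filter fun i => inO i = true with hondef
  have hcoff : off.card = 16 := by decide +kernel
  have hcon : on.card = 8 := by decide +kernel
  have key : ∑ i ∈ off, ∑ p ∈ on, ((g • eight i : leechLattice) : GolayPt → ℤ) p ^ 2 = 1024 := by
    rw [sum_congr rfl fun i hi => (Finset.sum_subset (subset_univ on) fun p _ hp => ?_).trans (hrow i)]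
    · rw [sum_const, hcoff]; rfl
    · rw [hoff i p (mem_filter.1 hi).2 (by simpa [hondef] using hp)]
      rfl
  have hle : ∑ p ∈ on, ∑ i ∈ off, ((g • eight i : leechLattice) : GolayPt → ℤ) p ^ 2 ≤
      ∑ p ∈ on, (64 : ℤ) := sum_le_sum fun p _ =>
    (sum_le_sum_of_subset_of_nonneg (subset_univ off) fun i _ _ => sq_nonneg _).trans (hsum p).le
  rw [← sum_comm, key, sum_const, hcon] at hle
  norm_num at hle

/-- The projection of the centraliser. -/
def proj : dGrp →* cC :=
  ((QuotientGroup.mk' (Subgroup.center Co0)).comp dGrp.subtype).codRestrict cC fun d =>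
    Subgroup.mem_centralizer_singleton_iff.2
      (congrArg (fun x : Co0 => (x : Spor.Co1)) (mem_dGrp.1 d.2))

theorem proj_val (d : dGrp) : ((proj d : cC) : Spor.Co1) = ((d : Co0) : Spor.Co1) := rfl

theorem proj_surjective : Function.Surjective proj := by
  rintro ⟨x, hx⟩
  obtain ⟨g, rfl⟩ := QuotientGroup.mk_surjective x
  rcases mk_eq_cases (a := g * zElt) (b := zElt * g) (Subgroup.mem_centralizer_singleton_iff.1 hx)
    with e | e
  · exact ⟨⟨g, mem_dGrp.2 e⟩, rfl⟩
  · exact absurd e not_neg_conj

/-- The action, into the commutator subgroup. -/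
noncomputable def phiO : dGrp →* Omega (ZMod 2) (quadFormPlus 4 (ZMod 2)) :=
  phi8.codRestrict _ fun d => phi8_range ▸ ⟨d, rfl⟩

theorem phiO_eq_one {d : dGrp} : phiO d = 1 ↔ ∀ i, act8 d i = i :=
  ⟨fun h => mem_ker_phi8.1 (MonoidHom.mem_ker.2 (congrArg Subtype.val h)),
    fun h => Subtype.ext (MonoidHom.mem_ker.1 (mem_ker_phi8.2 h))⟩

theorem ker_proj_le : proj.ker ≤ phiO.ker := by
  intro d hd
  rw [MonoidHom.mem_ker] at hd ⊢
  refine phiO_eq_one.2 fun i => ?_
  rcases mk_eq_cases (a := (d : Co0)) (b := 1) (congrArg Subtype.val hd) with e | e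
  · exact act8_eq (Or.inl (by rw [e, one_smul]))
  · exact act8_eq (Or.inr (by rw [e, mul_one, negElt_smul]))

/-- The action of the centraliser in `Co1`. -/
noncomputable def psi : cC →* Omega (ZMod 2) (quadFormPlus 4 (ZMod 2)) :=
  proj.liftOfSurjective proj_surjective ⟨phiO, ker_proj_le⟩

theorem psi_proj (d : dGrp) : psi (proj d) = phiO d :=
  MonoidHom.liftOfRightInverse_comp_apply _ _ _ _ _

theorem psi_surjective : Function.Surjective psi := by
  intro w
  obtain ⟨d, hd⟩ : ((w : O8)) ∈ phi8.range := by rw [phi8_range]; exact w.2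
  exact ⟨proj d, (psi_proj d).trans (Subtype.ext hd)⟩

/-- The kernel of the smaller centraliser, in `Co1`. -/
noncomputable def iota : phi.ker →* cC := (proj.comp (Subgroup.inclusion cGrp_le)).comp phi.ker.subtype

theorem iota_injective : Function.Injective iota := by
  rw [← MonoidHom.ker_eq_bot_iff, Subgroup.eq_bot_iff_forall]
  intro k hk
  rcases mk_eq_cases (a := ((k : cGrp) : Co0)) (b := 1) (congrArg Subtype.val (MonoidHom.mem_ker.1 hk))
    with e | e
  · exact Subtype.ext (Subtype.ext e)
  · exfalso
    have h1 := (mem_cGrp.1 (k : cGrp).2).1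
    rw [e, mul_one, negElt_smul] at h1
    have h2 := congrArg (fun v : leechLattice => (v : GolayPt → ℤ) none) h1
    simp only [AddSubgroup.coe_neg, Pi.neg_apply, leechU_val] at h2
    have := (vU_points none).1.2 (Or.inl rfl)
    omega

theorem iota_range : iota.range = psi.ker := by
  ext x
  constructor
  · rintro ⟨k, rfl⟩
    rw [MonoidHom.mem_ker]
    refine (psi_proj (incl (k : cGrp))).trans (phiO_eq_one.2 (eq_ker_of_fix (act8_incl_v _) fun i => ?_).1)
    rw [act8_incl, mem_ker_phi.1 k.2]
  · intro hx
    obtain ⟨d, rfl⟩ := proj_surjective x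
    rw [MonoidHom.mem_ker, psi_proj, phiO_eq_one] at hx
    obtain ⟨-, q, hq, hd⟩ := eq_ker_of_fix (hx _) fun i => hx _
    refine ⟨kerElt ⟨q, hq⟩, Subtype.ext ?_⟩
    show ((monoElt q : Co0) : Spor.Co1) = ((d : Co0) : Spor.Co1)
    rcases hd with e | e <;> rw [e]
    rw [mk_negElt_mul]

/-- The kernel is the extraspecial group. -/
noncomputable def kerEquiv : phi.ker ≃* psi.ker :=
  (MonoidHom.ofInjective iota_injective).trans (MulEquiv.subgroupCongr iota_range)

theorem card_psi_ker : Nat.card psi.ker = 2 ^ 9 :=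
  (Nat.card_congr kerEquiv.symm.toEquiv).trans card_ker

theorem pCore_cC : Cfsg.pCore 2 cC = psi.ker := by
  refine le_antisymm (sSup_le fun N hN => ?_) (le_sSup ⟨inferInstance, IsPGroup.of_card card_psi_ker⟩)
  have hle : N.map psi ≤ Cfsg.pCore 2 _ := le_sSup ⟨hN.1.map psi psi_surjective, hN.2.map psi⟩
  rw [pCore_omega, le_bot_iff] at hle
  exact (Subgroup.map_eq_bot_iff N).1 hle

theorem supp_eight {i : GolayPt} (hi : inO i = true) : Supp (eight i : GolayPt → ℤ) := fun p hp => by
  rw [eight_val, Pi.single_eq_of_ne fun e => by rw [e, hi] at hp; exact Bool.noConfusion hp]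

/-- An element centralising the kernel modulo the centre commutes with it. -/
theorem comm_exact {d : dGrp} {q : M24 × golayCode} (hq : InKer q)
    (h : proj d * iota (kerElt ⟨q, hq⟩) = iota (kerElt ⟨q, hq⟩) * proj d) :
    (d : Co0) * monoElt q = monoElt q * (d : Co0) := by
  refine (mk_eq_cases (a := (d : Co0) * monoElt q) (b := monoElt q * (d : Co0))
    (congrArg Subtype.val h)).resolve_right fun e => ?_
  have hn : inO none = true := (vU_points none).2 (Or.inl rfl)
  have hv : Supp (((d : Co0) • eight none : leechLattice) : GolayPt → ℤ) := zElt_fix_iff.1 (by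
    rw [← mul_smul, ← mem_dGrp.1 d.2, mul_smul, zElt_fix_iff.2 (supp_eight hn)])
  have h' := congrArg (fun x : Co0 => ((x • eight none : leechLattice) : GolayPt → ℤ)) e
  simp only [mul_smul, hq.fix_supp (supp_eight hn), hq.fix_supp hv, negElt_smul, AddSubgroup.coe_neg] at h'
  have h0 := co0_norm (d : Co0) (eight none)
  rw [show (((d : Co0) • eight none : leechLattice) : GolayPt → ℤ) = 0 from funext fun p => by
    have := congrFun h' p
    simp only [Pi.neg_apply] at this
    simp only [Pi.zero_apply]
    omega] at h0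
  simp [sqNorm, eight_val, Pi.single_apply] at h0

theorem offWord_inKer {m : ℕ} (hm : m ∈ offWords) : ∃ hc : Mathieu.wordOf m ∈ golayCode,
    InKer ((1, ⟨Mathieu.wordOf m, hc⟩) : M24 × golayCode) := by
  have hw := offWords_check
  simp only [Bool.and_eq_true, List.all_eq_true, beq_iff_eq] at hw
  refine ⟨Mathieu.wordOf_mem_of_inCode (hw.2 m hm).1, one_mem _, fun p hp => ?_⟩
  have h' := congrArg (fun k => k.testBit (Mathieu.ptEnc p).val) (hw.2 m hm).2
  simp only [Nat.testBit_and, Nat.zero_testBit] at h'
  rw [show oMask.testBit (Mathieu.ptEnc p).val = true from hp, Bool.and_true] at h'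
  show Mathieu.wordOf m p = 0
  simp [Mathieu.wordOf, Mathieu.hasPt, h']

theorem ptsOf_offMask : ∀ p : GolayPt, p ∈ Mathieu.ptsOf offMask → inO p = false := by decide +kernel

theorem off_none : inO (Mathieu.idx Mathieu.ptEnc 4) = false := by decide +kernel

/-- The centraliser of the extraspecial group is inside it. -/
theorem centralizer_le : Subgroup.centralizer (psi.ker : Set cC) ≤ psi.ker := by
  intro x hx
  obtain ⟨d, rfl⟩ := proj_surjective x
  have hcomm : ∀ q, InKer q → (d : Co0) * monoElt q = monoElt q * (d : Co0) := fun q hq =>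
    comm_exact hq ((Subgroup.mem_centralizer_iff.1 hx _ (by rw [← iota_range]; exact ⟨_, rfl⟩)).symm)
  -- every standard vector off the octad is fixed up to sign
  have hfix : ∀ i, inO i = false → ∀ p, p ≠ i →
      (((d : Co0) • eight i : leechLattice) : GolayPt → ℤ) p = 0 := by
    intro i hi p hpi
    have he : zElt • eight i = -eight i := by
      refine Subtype.ext (funext fun q => ?_)
      rw [zElt_smul, AddSubgroup.coe_neg, Pi.neg_apply, eight_val]
      rcases eq_or_ne q i with rfl | hq
      · simp [hi]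
      · simp [Pi.single_eq_of_ne hq]
    have hz := congrArg (fun y : Co0 => ((y • eight i : leechLattice) : GolayPt → ℤ) p) (mem_dGrp.1 d.2)
    simp only [mul_smul, he, co0_neg, AddSubgroup.coe_neg, Pi.neg_apply, zElt_smul] at hz
    cases hp : inO p
    swap
    · rw [hp, if_pos rfl] at hz
      omega
    have hs := List.all_eq_true.1 separated_check (Mathieu.ptEnc p).val (List.mem_range.2 (Fin.isLt _))
    rw [show oMask.testBit (Mathieu.ptEnc p).val = inO p from rfl, hp, Bool.false_or] at hs
    have hs' := List.all_eq_true.1 hs (Mathieu.ptEnc i).val (List.mem_range.2 (Fin.isLt _))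
    simp only [Bool.or_eq_true, beq_iff_eq, List.any_eq_true, bne_iff_ne] at hs'
    rcases hs' with e | ⟨m, hm, hne⟩
    · exact absurd (Mathieu.ptEnc.injective (Fin.ext e)) hpi
    obtain ⟨hc, hk⟩ := offWord_inKer hm
    have hsv : monoElt ((1, ⟨Mathieu.wordOf m, hc⟩) : M24 × golayCode) • eight i =
        if m.testBit (Mathieu.ptEnc i).val then -eight i else eight i := by
      refine Subtype.ext (funext fun q => ?_)
      rw [monoElt_apply]
      simp only [Mathieu.wordOf, Mathieu.hasPt, OneMemClass.coe_one]
      rcases eq_or_ne q i with rfl | hq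
      · rcases Bool.eq_false_or_eq_true (m.testBit (Mathieu.ptEnc q).val) with a | a <;>
          simp [a, Equiv.Perm.one_symm, eight_val]
      · rcases Bool.eq_false_or_eq_true (m.testBit (Mathieu.ptEnc q).val) with a | a <;>
          rcases Bool.eq_false_or_eq_true (m.testBit (Mathieu.ptEnc i).val) with b | b <;>
          simp [a, b, Equiv.Perm.one_symm, eight_val, Pi.single_eq_of_ne hq]
    have h' := congrArg (fun y : Co0 => ((y • eight i : leechLattice) : GolayPt → ℤ) p) (hcomm _ hk)
    simp only [mul_smul, hsv, monoElt_apply, Mathieu.wordOf, Mathieu.hasPt, OneMemClass.coe_one,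
      Equiv.Perm.one_symm, Equiv.Perm.one_apply] at h'
    rcases Bool.eq_false_or_eq_true (m.testBit (Mathieu.ptEnc p).val) with a | a <;>
      rcases Bool.eq_false_or_eq_true (m.testBit (Mathieu.ptEnc i).val) with b | b <;>
      simp [a, b, co0_neg] at h' hne <;> omega
  have hval : ∀ i, inO i = false → (((d : Co0) • eight i : leechLattice) : GolayPt → ℤ) i = 8 ∨
      (((d : Co0) • eight i : leechLattice) : GolayPt → ℤ) i = -8 := fun i hi => by
    have h0 := co0_norm (d : Co0) (eight i)
    rw [sqNorm, Fintype.sum_eq_single i fun p hp => by rw [hfix i hi p hp]; rfl] at h0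
    simp only [eight_val, sqNorm, Pi.single_apply, ite_pow, ne_eq, OfNat.ofNat_ne_zero, not_false_eq_true,
      zero_pow, sum_ite_eq', mem_univ, if_true] at h0
    rcases eq_or_eq_neg_of_sq_eq_sq _ _ h0 with h | h
    · exact Or.inl h
    · exact Or.inr h
  have hstd : FixesStd (d : Co0) := by
    rw [fixesStd_iff, ← clsV_smul (cls_stdCross (eight_mem_stdCross (Mathieu.idx Mathieu.ptEnc 4)))]
    refine cls_stdCross ⟨Mathieu.idx Mathieu.ptEnc 4, _, hval _ off_none, funext fun p => ?_⟩
    rcases eq_or_ne p (Mathieu.idx Mathieu.ptEnc 4) with rfl | hp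
    · rw [Pi.single_eq_same]
    · rw [Pi.single_eq_of_ne hp, hfix _ off_none p hp]
  obtain ⟨⟨⟨σ, hσ⟩, c⟩, hq⟩ := exists_monoElt_of_fixesStd hstd
  have hσ1 : σ = 1 := Mathieu.eq_one_of_closeOK hσ offClose offMask offClose_check fun p hp => by
    by_contra hne
    have h0 := hfix p (ptsOf_offMask p hp) (σ p) hne
    rw [← hq, monoElt_apply] at h0
    simp only [Equiv.symm_apply_apply, eight_val, Pi.single_eq_same] at h0
    split_ifs at h0
    all_goals omega
  subst hσ1
  have hconst : ∀ p r, inO p = false → inO r = false →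
      (c : GolayPt → ZMod 2) p = (c : GolayPt → ZMod 2) r := by
    intro p r hp hr
    have hp' : p ∉ oSet := fun h => by rw [mem_oSet, hp] at h; exact Bool.noConfusion h
    have hr' : r ∉ oSet := fun h => by rw [mem_oSet, hr] at h; exact Bool.noConfusion h
    obtain ⟨τ, hτ, hτp⟩ := Mathieu.octFix_map oSet_octad hp' hr'
    have h' := hcomm (⟨τ, (Mathieu.mem_octFix.1 hτ).1⟩, 0) ⟨hτ, fun _ _ => rfl⟩
    rw [← hq, comp_mul, comp_mul] at h'
    have h'' := congrFun (congrArg Subtype.val (Prod.ext_iff.1 (monoElt_injective h')).2) r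
    simp only [Pi.add_apply, Function.comp_apply, ZeroMemClass.coe_zero, Pi.zero_apply, zero_add, add_zero,
      ← hτp, Equiv.symm_apply_apply] at h''
    rw [← hτp]
    exact h''.symm
  obtain ⟨m, hm, hmw⟩ := Mathieu.mem_golayCode_iff.1 c.2
  have hO : ∀ p r, inO p = true → inO r = true →
      (c : GolayPt → ZMod 2) p = (c : GolayPt → ZMod 2) r := by
    have hmem := Mathieu.inCode_iff_mem.1 hm
    rw [Mathieu.codeList, List.mem_map] at hmem
    obtain ⟨k, hk, rfl⟩ := hmem
    have h := List.all_eq_true.1 off_const_check k hk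
    simp only [Mathieu.force_eq] at h
    set m := Mathieu.encC Mathieu.codeBasis k with hmdef
    have hoff : (m &&& offMask == 0 || m &&& offMask == offMask) = true := by
      have hbit : ∀ n, n < 24 → offMask.testBit n = true →
          m.testBit n = m.testBit 4 := fun n hn hb => by
        have h1 : inO (Mathieu.idx Mathieu.ptEnc n) = false :=
          ptsOf_offMask _ (Mathieu.mem_ptsOf.2 (by rw [Mathieu.hasPt, Mathieu.idx_val hn]; exact hb))
        have h2 := hconst _ _ h1 off_none
        rw [← hmw] at h2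
        simp only [Mathieu.wordOf, Mathieu.hasPt, Mathieu.idx_val hn,
          Mathieu.idx_val (show 4 < 24 by norm_num)] at h2
        revert h2
        cases m.testBit n <;> cases m.testBit 4 <;> simp
      have hlt : ∀ n, offMask.testBit n = true → n < 24 := fun n hb => by
        by_contra hn
        rw [Nat.testBit_lt_two_pow (lt_of_lt_of_le (show offMask < 2 ^ 24 by decide +kernel)
          (Nat.pow_le_pow_right (by norm_num) (by omega)))] at hb
        exact Bool.noConfusion hb
      rw [Bool.or_eq_true, beq_iff_eq, beq_iff_eq]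
      cases h4 : m.testBit 4
      · refine Or.inl (Nat.eq_of_testBit_eq fun n => ?_)
        rw [Nat.testBit_and, Nat.zero_testBit]
        cases hb : offMask.testBit n
        · simp
        · rw [hbit n (hlt n hb) hb, h4]; rfl
      · refine Or.inr (Nat.eq_of_testBit_eq fun n => ?_)
        rw [Nat.testBit_and]
        cases hb : offMask.testBit n
        · simp
        · rw [hbit n (hlt n hb) hb, h4]; rfl
    rw [hoff, Bool.not_true, Bool.false_or] at h
    simp only [Bool.or_eq_true, beq_iff_eq] at h
    intro p r hp hr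
    rw [← hmw]
    have four : ∀ n ∈ [0, 16777215, oMask, offMask], ∀ a b : GolayPt, inO a = true → inO b = true →
        Mathieu.wordOf n a = Mathieu.wordOf n b := by decide +kernel
    refine four m ?_ p r hp hr
    rcases h with ((e | e) | e) | e <;> simp [e]
  rw [MonoidHom.mem_ker, psi_proj, phiO_eq_one]
  intro i
  refine act8_eq ?_
  show (d : Co0) • rootW i = _ ∨ (d : Co0) • rootW i = _
  rw [← hq]
  have hn : inO none = true := (vU_points none).2 (Or.inl rfl)
  rcases zmod2_cases ((c : GolayPt → ZMod 2) none) with hc | hc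
  · refine Or.inl (InKer.fix_supp ⟨one_mem _, fun p hp => ?_⟩ (supp_rootW i))
    exact (hO p none hp hn).trans hc
  · refine Or.inr (Subtype.ext (funext fun k => ?_))
    rw [monoElt_apply, AddSubgroup.coe_neg, Pi.neg_apply]
    show (if _ then -(rootW i : GolayPt → ℤ) k else (rootW i : GolayPt → ℤ) k) = _
    cases hk : inO k
    · simp [supp_rootW i k hk]
    · rw [if_pos ((hO k none hk hn).trans hc)]

theorem genFitting_cC : Cfsg.generalizedFittingSubgroup cC = psi.ker := by
  have : Fact (Nat.Prime 2) := ⟨Nat.prime_two⟩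
  rw [← pCore_cC]
  refine LocalChar.genFitting_eq_pCore_iff.2 ?_
  rw [LocalChar.CP, pCore_cC]
  exact centralizer_le

theorem extraspecial_psi_ker : Cfsg.IsExtraspecial 2 psi.ker := extraspecial_of_equiv kerEquiv.symm

theorem zC_order : orderOf zC = 2 := by
  have : Fact (Nat.Prime 2) := ⟨Nat.prime_two⟩
  refine orderOf_eq_prime ?_ fun h => ?_
  · rw [pow_two, zC, ← QuotientGroup.mk_mul, show zElt * zElt = 1 from
      eq_of_smul_eq_smul (α := leechLattice) fun v => Subtype.ext (funext fun p => by
        rw [mul_smul, zElt_smul, zElt_smul, one_smul]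
        cases inO p <;> simp)]
    rfl
  · have hn : inO none = true := (vU_points none).2 (Or.inl rfl)
    have ho := off_none
    rcases mk_eq_cases (a := zElt) (b := 1) h with e | e
    · have h' := congrArg (fun x : Co0 => ((x • eight (Mathieu.idx Mathieu.ptEnc 4) : leechLattice) :
        GolayPt → ℤ) (Mathieu.idx Mathieu.ptEnc 4)) e
      simp [zElt_smul, ho, eight_val] at h'
    · have h' := congrArg (fun x : Co0 => ((x • eight none : leechLattice) : GolayPt → ℤ) none) e
      simp [zElt_smul, hn, negElt_smul, eight_val] at h'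

/-- A conjugate of the involution lies in the extraspecial group and differs from it. -/
theorem not_weakly_closed : ∃ g : Spor.Co1,
    (∃ hq : g * zC * g⁻¹ ∈ cC, (⟨g * zC * g⁻¹, hq⟩ : cC) ∈ psi.ker) ∧ g * zC * g⁻¹ ≠ zC := by
  have hm := octMove_check
  simp only [Bool.and_eq_true, List.all_eq_true, List.mem_range, beq_iff_eq, List.contains_iff_mem] at hm
  obtain ⟨⟨⟨⟨⟨hp, hpr⟩, hin⟩, -⟩, -⟩, hbit⟩ := hm
  obtain ⟨τ, hτ⟩ := Mathieu.exists_rep (e := Mathieu.ptEnc) hp
  obtain ⟨hc, hk⟩ := offWord_inKer hin
  set t : Co0 := permElt τ (Mathieu.mem_M24_of_rep hτ hpr) with ht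
  set q : M24 × golayCode := (1, ⟨Mathieu.wordOf oMask2, hc⟩) with hqdef
  have hO : ∀ r, inO r = oMask2.testBit (Mathieu.ptEnc (τ r)).val := fun r => by
    rw [hτ r, hbit _ (Fin.isLt _)]
    rfl
  have hconj : t * zElt = negElt * monoElt q * t := by
    refine eq_of_smul_eq_smul (α := leechLattice) fun v => Subtype.ext (funext fun p => ?_)
    simp only [mul_smul, negElt_smul, AddSubgroup.coe_neg, Pi.neg_apply, monoElt_apply, ht, permElt_smul,
      zElt_smul, hqdef, OneMemClass.coe_one, Equiv.Perm.one_symm, Equiv.Perm.one_apply, hO,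
      Equiv.apply_symm_apply, Mathieu.wordOf, Mathieu.hasPt]
    rcases Bool.eq_false_or_eq_true (oMask2.testBit (Mathieu.ptEnc p).val) with a | a <;> simp [a]
  have e : ((t : Co0) : Spor.Co1) * zC * ((t : Co0) : Spor.Co1)⁻¹ =
      ((iota (kerElt ⟨q, hk⟩) : cC) : Spor.Co1) := by
    show _ = ((monoElt q : Co0) : Spor.Co1)
    rw [zC, ← QuotientGroup.mk_mul, ← QuotientGroup.mk_inv, ← QuotientGroup.mk_mul, hconj,
      mul_inv_cancel_right, mk_negElt_mul]
  refine ⟨((t : Co0) : Spor.Co1), ⟨e ▸ (iota (kerElt ⟨q, hk⟩)).2, ?_⟩, fun h => ?_⟩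
  · rw [← iota_range]
    exact ⟨_, Subtype.ext e.symm⟩
  · rw [e] at h
    change ((monoElt q : Co0) : Spor.Co1) = zC at h
    have hn : inO none = true := (vU_points none).2 (Or.inl rfl)
    rcases mk_eq_cases h with e' | e'
    · obtain ⟨n, h1, h2⟩ : ∃ n : GolayPt, inO n = false ∧ Mathieu.wordOf oMask2 n = 0 := by decide +kernel
      have h' := congrArg (fun x : Co0 => ((x • eight n : leechLattice) : GolayPt → ℤ) n) e'
      simp [monoElt_apply, zElt_smul, hqdef, h1, h2, Equiv.Perm.one_symm, eight_val] at h'
    · have h' := congrArg (fun x : Co0 => ((x • eight none : leechLattice) : GolayPt → ℤ) none) e'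
      simp [mul_smul, negElt_smul, monoElt_apply, zElt_smul, hqdef, hn, Equiv.Perm.one_symm,
        eight_val] at h'
      rw [show Mathieu.wordOf oMask2 none = 0 from hk.2 none hn] at h'
      simp at h'

end Cfsg.Agent.Leech.OctadCent
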